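import Groth.Agent.Lib.InjMod.Affine
import Mathlib.Algebra.Module.Injective

/-!
# The stalks of injective modules on locally Noetherian schemes are injective
-/

set_option autoImplicit false
universe u

open CategoryTheory Limits AlgebraicGeometry Opposite TopologicalSpace

namespace Groth.Agent.Lib.InjMod

open Groth.Agent.Lib.Modules StalkModule Groth.Agent.Lib.QCoh.Localizing

noncomputable section

variable {X : Scheme.{u}} {F : X.Modules}

namespace PHom

/-- The partial homomorphism of finitely many pairs of sections. -/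
def ofPairs {W : X.Opens} {n : ℕ} (r : Fin n → Γ(X, W)) (t : Fin n → Γ(F, W))
    (h : ∀ y (hy : y ∈ W) (a : Fin n → X.presheaf.stalk y),
      ∑ i, a i * gr hy (r i) = 0 → ∑ i, a i • gm F hy (t i) = 0) : PHom (Coh.structureModule X) F where
  G y := Submodule.span _ {p | ∃ (hy : y ∈ W) (i : Fin n), (gr hy (r i) • oneAt y, gm F hy (t i)) = p}
  single y b hb := by
    by_cases hy : y ∈ W
    · rw [show {p | ∃ (hy : y ∈ W) (i : Fin n), (gr hy (r i) • oneAt y, gm F hy (t i)) = p} =
        Set.range (fun i => (gr hy (r i) • oneAt y, gm F hy (t i))) from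
        Set.ext fun p => ⟨fun ⟨_, i, h⟩ => ⟨i, h⟩, fun ⟨i, h⟩ => ⟨hy, i, h⟩⟩,
        Submodule.mem_span_range_iff_exists_fun] at hb
      obtain ⟨a, ha⟩ := hb
      have h1 : ∑ i, a i • gr hy (r i) • oneAt y = 0 :=
        ((Prod.fst_sum (s := Finset.univ) (f := fun i => a i • (gr hy (r i) • oneAt y, gm F hy (t i)))).symm.trans
          (congrArg Prod.fst ha))
      have h2 : ∑ i, a i • gm F hy (t i) = b :=
        ((Prod.snd_sum (s := Finset.univ) (f := fun i => a i • (gr hy (r i) • oneAt y, gm F hy (t i)))).symm.trans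
          (congrArg Prod.snd ha))
      rw [← h2]
      refine h y hy a (smul_oneAt_injective (y := y) ?_)
      rw [zero_smul, Finset.sum_smul, ← h1]
      simp only [mul_smul]
    · rw [show {p | ∃ (hy : y ∈ W) (i : Fin n), (gr hy (r i) • oneAt y, gm F hy (t i)) = p} = ∅ from
        Set.ext fun p => ⟨fun ⟨h, _⟩ => absurd h hy, fun h => h.elim⟩, Submodule.span_empty,
        Submodule.mem_bot] at hb
      exact congrArg Prod.snd hb
  open' y p hp := by
    induction hp using Submodule.span_induction with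
    | mem p hp =>
      obtain ⟨hy, i, rfl⟩ := hp
      exact ⟨W, hy, r i, t i, gm_fun hy _, rfl, fun z hz => by
        rw [gm_fun]
        exact Submodule.subset_span ⟨hz, i, rfl⟩⟩
    | zero => exact ⟨⊤, trivial, 0, 0, gm_zero _, gm_zero _, fun z hz => by
        rw [gm_zero, gm_zero]; exact zero_mem _⟩
    | add p q _ _ hp hq =>
      obtain ⟨U₁, h₁, s₁, t₁, hs₁, ht₁, hst₁⟩ := hp
      obtain ⟨U₂, h₂, s₂, t₂, hs₂, ht₂, hst₂⟩ := hq
      refine ⟨U₁ ⊓ U₂, ⟨h₁, h₂⟩, res _ inf_le_left s₁ + res _ inf_le_right s₂,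
        res F inf_le_left t₁ + res F inf_le_right t₂, ?_, ?_, fun z hz => ?_⟩
      · erw [gm_add, gm_res, gm_res, hs₁, hs₂]; rfl
      · erw [gm_add, gm_res, gm_res, ht₁, ht₂]; rfl
      · erw [gm_add, gm_res, gm_res, gm_add, gm_res, gm_res]
        exact (Submodule.span _ _).add_mem (hst₁ z hz.1) (hst₂ z hz.2)
    | smul c p _ hp =>
      obtain ⟨U₁, h₁, s₁, t₁, hs₁, ht₁, hst₁⟩ := hp
      obtain ⟨U₂, h₂, c, rfl⟩ := exists_gr c
      refine ⟨U₂ ⊓ U₁, ⟨h₂, h₁⟩, resR (inf_le_left : U₂ ⊓ U₁ ≤ U₂) c • res _ (inf_le_right : U₂ ⊓ U₁ ≤ U₁) s₁,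
        resR (inf_le_left : U₂ ⊓ U₁ ≤ U₂) c • res F (inf_le_right : U₂ ⊓ U₁ ≤ U₁) t₁, ?_, ?_, fun z hz => ?_⟩
      · erw [gm_smul, gm_res, gr_res, hs₁]; rfl
      · erw [gm_smul, gm_res, gr_res, ht₁]; rfl
      · erw [gm_smul, gm_res, gr_res, gm_smul, gm_res, gr_res]
        exact (Submodule.span _ _).smul_mem (gr hz.1 c) (hst₁ z hz.2)

lemma mem_ofPairs {W : X.Opens} {n : ℕ} (r : Fin n → Γ(X, W)) (t : Fin n → Γ(F, W))
    (h : ∀ y (hy : y ∈ W) (a : Fin n → X.presheaf.stalk y),
      ∑ i, a i * gr hy (r i) = 0 → ∑ i, a i • gm F hy (t i) = 0) {y : X} (hy : y ∈ W) (i : Fin n) :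
    (gr hy (r i) • oneAt y, gm F hy (t i)) ∈ (ofPairs r t h).G y :=
  Submodule.subset_span ⟨hy, i, rfl⟩

end PHom

variable [IsLocallyNoetherian X]

/-- The stalks of an injective module are injective. -/
theorem injective_stalk (hF : Injective F) (x : X) :
    Module.Injective (X.presheaf.stalk x) (F.presheaf.stalk x) := by
  classical
  refine Module.Baer.injective fun I φ => ?_
  obtain ⟨V, hV, hx, -⟩ := exists_isAffineOpen_mem_and_subset (U := ⊤) (x := x) trivial
  haveI := isNoetherianRing_sections hV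
  let A := Γ(X, V)
  obtain ⟨n, a, ha⟩ := Submodule.fg_iff_exists_fin_generating_family.1
    (IsNoetherian.noetherian (Ideal.comap (X.presheaf.germ V x hx).hom I))
  have haI : ∀ i, gr hx (a i) ∈ I := fun i =>
    (show a i ∈ Ideal.comap (X.presheaf.germ V x hx).hom I from ha ▸ Submodule.subset_span ⟨i, rfl⟩)
  choose U hU τ hτ using fun i => exists_gm F (φ ⟨gr hx (a i), haI i⟩)
  obtain ⟨m, ρ, hρ⟩ := Submodule.fg_iff_exists_fin_generating_family.1
    (IsNoetherian.noetherian (LinearMap.ker (Fintype.linearCombination Γ(X, V) a)))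
  -- the relations hold for the values near `x`
  obtain ⟨g₀, hxg₀, hle₀⟩ := exists_basicOpen_le_inter hV hx Finset.univ U fun i _ => hU i
  have hD : X.basicOpen g₀ ≤ V := X.basicOpen_le g₀
  let rel : Fin m → Γ(F, X.basicOpen g₀) := fun k =>
    ∑ i, resR hD (ρ k i) • res F (hle₀ i (Finset.mem_univ i)) (τ i)
  have hrel0 : ∀ k, gm F hxg₀ (rel k) = gm F hxg₀ (0 : Γ(F, X.basicOpen g₀)) := fun k => by
    have hk : ∑ i, ρ k i * a i = 0 := by
      have h0 : ρ k ∈ LinearMap.ker (Fintype.linearCombination Γ(X, V) a) := hρ ▸ Submodule.subset_span ⟨k, rfl⟩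
      simpa [Fintype.linearCombination_apply] using h0
    rw [gm_zero]
    refine (map_sum (F.presheaf.germ _ x hxg₀).hom _ _).trans ?_
    calc ∑ i, gm F hxg₀ (resR hD (ρ k i) • res F (hle₀ i (Finset.mem_univ i)) (τ i))
        = ∑ i, φ (gr hx (ρ k i) • ⟨gr hx (a i), haI i⟩) := Finset.sum_congr rfl fun i _ => by
          rw [gm_smul, gm_res, gr_res, map_smul, hτ]
      _ = φ (∑ i, gr hx (ρ k i) • ⟨gr hx (a i), haI i⟩) := (map_sum φ _ _).symm
      _ = 0 := by
        refine (congrArg φ (Subtype.ext ?_)).trans (map_zero φ)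
        rw [Submodule.coe_sum, Submodule.coe_zero]
        refine Eq.trans ?_ ((congrArg (X.presheaf.germ V x hx) hk).trans (map_zero _))
        refine Eq.trans ?_ (map_sum (X.presheaf.germ V x hx).hom _ _).symm
        exact Finset.sum_congr rfl fun i _ => (map_mul (X.presheaf.germ V x hx).hom _ _).symm
  choose Wk hWk hWk' hxWk hWkz using fun k => exists_gm_eq (hrel0 k)
  obtain ⟨g, hxg, hle⟩ := exists_basicOpen_le_inter hV hx (Finset.univ : Finset (Option (Fin m)))
    (fun o => o.elim (X.basicOpen g₀) Wk) fun o _ => by cases o; exacts [hxg₀, hxWk _]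
  have hWV : X.basicOpen g ≤ V := X.basicOpen_le g
  have hWU : ∀ i, X.basicOpen g ≤ U i := fun i =>
    (hle none (Finset.mem_univ none)).trans (hle₀ i (Finset.mem_univ i))
  have hsingle : ∀ y (hy : y ∈ X.basicOpen g) (c : Fin n → X.presheaf.stalk y),
      ∑ i, c i * gr hy (resR hWV (a i)) = 0 → ∑ i, c i • gm F hy (res F (hWU i) (τ i)) = 0 := by
    intro y hy c hc
    simp only [gr_res] at hc
    simp only [gm_res]
    choose e s hs hes using fun i => exists_fraction hV (hWV hy) (c i)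
    let s₀ := ∏ i, s i
    have hs₀ : IsUnit (gr (hWV hy) s₀) := by
      rw [gr, map_prod]
      exact IsUnit.prod_iff.2 fun i _ => hs i
    let e' : Fin n → Γ(X, V) := fun i => e i * ∏ j ∈ Finset.univ.erase i, s j
    have he' : ∀ i, gr (hWV hy) (e' i) = gr (hWV hy) s₀ * c i := fun i => by
      simp only [gr, e', s₀, map_mul]
      rw [← Finset.mul_prod_erase Finset.univ s (Finset.mem_univ i), map_mul]
      rw [show (X.presheaf.germ V y (hWV hy)) (e i) = c i * gr (hWV hy) (s i) from (hes i).symm]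
      ring
    have h0 : gr (hWV hy) (∑ i, e' i * a i) = 0 := by
      rw [gr, map_sum]
      refine Eq.trans ?_ ((congrArg (gr (hWV hy) s₀ * ·) hc).trans (mul_zero _))
      rw [Finset.mul_sum]
      refine Finset.sum_congr rfl fun i _ => ?_
      rw [map_mul, ← mul_assoc, ← he']
    obtain ⟨u, hu, hue⟩ := exists_mul_eq_zero hV (hWV hy) h0
    have hmem : (fun i => u * e' i) ∈ LinearMap.ker (Fintype.linearCombination Γ(X, V) a) := by
      rw [LinearMap.mem_ker, Fintype.linearCombination_apply, ← hue, Finset.mul_sum]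
      exact Finset.sum_congr rfl fun i _ => by rw [smul_eq_mul, mul_assoc]
    have hzero : ∑ i, gr (hWV hy) (u * e' i) • gm F (hWU i hy) (τ i) = 0 := by
      rw [← hρ, Submodule.mem_span_range_iff_exists_fun] at hmem
      obtain ⟨d, hd⟩ := hmem
      have hk : ∀ k, ∑ i, gr (hWV hy) (ρ k i) • gm F (hWU i hy) (τ i) = 0 := fun k => by
        refine Eq.trans ?_ ((hWkz k y (hle (some k) (Finset.mem_univ _) hy)).trans (gm_zero _))
        refine Eq.trans ?_ (map_sum (F.presheaf.germ _ y _).hom _ _).symm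
        exact Finset.sum_congr rfl fun i _ =>
          ((gm_smul (M := F) (hWk k (hle (some k) (Finset.mem_univ _) hy)) (resR hD (ρ k i))
            (res F (hle₀ i (Finset.mem_univ i)) (τ i))).trans
            (congrArg₂ (· • ·) (gr_res _ _ _) (gm_res _ _ _))).symm
      calc ∑ i, gr (hWV hy) (u * e' i) • gm F (hWU i hy) (τ i)
          = ∑ i, ∑ k, gr (hWV hy) (d k) • gr (hWV hy) (ρ k i) • gm F (hWU i hy) (τ i) := by
            refine Finset.sum_congr rfl fun i _ => ?_
            rw [← congrFun hd i, Finset.sum_apply, gr, map_sum, Finset.sum_smul]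
            exact Finset.sum_congr rfl fun k _ => by rw [Pi.smul_apply, smul_eq_mul, map_mul, mul_smul]
        _ = 0 := by
            rw [Finset.sum_comm]
            exact Finset.sum_eq_zero fun k _ => by rw [← Finset.smul_sum, hk, smul_zero]
    have h3 : (gr (hWV hy) u * gr (hWV hy) s₀) • ∑ i, c i • gm F (hWU i hy) (τ i) = 0 := by
      rw [Finset.smul_sum, ← hzero]
      refine Finset.sum_congr rfl fun i _ => ?_
      rw [← mul_smul, mul_assoc, ← he', show gr (hWV hy) u * gr (hWV hy) (e' i) = gr (hWV hy) (u * e' i) from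
        (map_mul (X.presheaf.germ V y (hWV hy)).hom _ _).symm]
    exact (hu.mul hs₀).smul_left_cancel.1 (h3.trans (smul_zero _).symm)
  obtain ⟨t, ht⟩ := (PHom.ofPairs _ _ hsingle).exists_section (X.basicOpen g)
  refine ⟨LinearMap.toSpanSingleton _ _ (gm F hxg t), fun r hr => ?_⟩
  obtain ⟨c, s, hs, hcs⟩ := exists_fraction hV hx r
  have hcI : c ∈ Ideal.comap (X.presheaf.germ V x hx).hom I := by
    show gr hx c ∈ I
    rw [← hcs]
    exact I.mul_mem_right _ hr
  rw [← ha, Submodule.mem_span_range_iff_exists_fun] at hcI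
  obtain ⟨d, hd⟩ := hcI
  have hcφ : gr hx s • φ ⟨r, hr⟩ = gr hx s • r • gm F hxg t := by
    have e1 : gr hx s • (⟨r, hr⟩ : I) = ∑ i, gr hx (d i) • ⟨gr hx (a i), haI i⟩ := by
      apply Subtype.ext
      rw [Submodule.coe_sum, Submodule.coe_smul, smul_eq_mul, mul_comm, hcs, ← hd, gr, map_sum]
      exact Finset.sum_congr rfl fun i _ => by rw [smul_eq_mul, map_mul]; rfl
    rw [← map_smul, e1, map_sum, ← mul_smul, mul_comm, hcs, ← hd, gr, map_sum, Finset.sum_smul]
    refine Finset.sum_congr rfl fun i _ => ?_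
    rw [map_smul, smul_eq_mul, map_mul, mul_smul]
    congr 1
    have := ht x hxg _ _ (PHom.mem_ofPairs _ _ hsingle hxg i)
    rw [gm_res, gr_res, hτ] at this
    exact this
  exact (hs.smul_left_cancel.1 hcφ).symm

end

end Groth.Agent.Lib.InjMod
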