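import Groth.Agent.Lib.InjMod.Flasque
import Groth.Agent.Lib.DerivedOX.Grothendieck

/-!
# Injective hulls of quasi-coherent modules on locally Noetherian schemes
-/

set_option autoImplicit false
universe u

open CategoryTheory Limits AlgebraicGeometry Opposite TopologicalSpace

namespace Groth.Agent.Lib.InjMod

open Groth.Agent.Lib Groth.Agent.Lib.Modules StalkModule Groth.Agent.Lib.QCoh.Localizing

noncomputable section

variable {X : Scheme.{u}} {M N I : X.Modules}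

namespace SubFam

/-- The zero family. -/
def bot' : SubFam M :=
  ofGen (fun _ => ∅) fun _ _ h => h.elim

lemma bot'_S (y : X) : (bot' (M := M)).S y = ⊥ := Submodule.span_empty

/-- Factor a morphism through a family containing its image. -/
def lift (T : SubFam M) (φ : N ⟶ M) (h : range φ ≤ T) : N ⟶ T.obj where
  val := PresheafOfModules.homMk
    { app := fun U => AddCommGrpCat.ofHom
        { toFun := fun (s : Γ(N, U.unop)) =>
            (⟨φ.app U.unop s, fun z hz => h z ⟨gm N hz s, stalkMapₗ_gm φ hz s⟩⟩ : T.sec U.unop)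
          map_zero' := Subtype.ext (map_zero (φ.app U.unop).hom)
          map_add' := fun a b => Subtype.ext (map_add (φ.app U.unop).hom a b) }
      naturality := fun U V i => by
        ext (s : Γ(N, U.unop))
        exact Subtype.ext (res_app φ i.unop.le s).symm }
    fun U r s => Subtype.ext (φ.app_smul (show Γ(X, U.unop) from r) (show Γ(N, U.unop) from s))

lemma lift_ι (T : SubFam M) (φ : N ⟶ M) (h : range φ ≤ T) : T.lift φ h ≫ T.ι = φ := by
  ext U s
  rfl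

end SubFam

/-- Essential families over `T₀`. -/
def Ess (T₀ T : SubFam I) : Prop :=
  T₀ ≤ T ∧ ∀ (U : X.Opens) (x : X) (hx : x ∈ U) (s : Γ(I, U)), gm I hx s ∈ T.S x → gm I hx s ≠ 0 →
    ∃ (y : X) (hy : y ∈ U) (r : X.presheaf.stalk y), r • gm I hy s ∈ T₀.S y ∧ r • gm I hy s ≠ 0

/-- A maximal essential family is a direct summand of an injective module. -/
theorem exists_retraction [Injective I] (T₀ T : SubFam I) (hT : Maximal (Ess T₀) T) :
    ∃ e : I ⟶ I, SubFam.range e ≤ T ∧ ∀ y, ∀ a ∈ T.S y, stalkMapₗ e y a = a := by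
  classical
  obtain ⟨C, -, hC⟩ := SubFam.exists_maximal (M := I) (fun C => ∀ y, C.S y ⊓ T.S y = ⊥) SubFam.bot'
    (fun y => by rw [SubFam.bot'_S, bot_inf_eq])
    (fun c hc hne hP y => eq_bot_iff.2 fun a ha => by
      obtain ⟨C', hC', haC⟩ := SubFam.mem_sSup'_chain hc hne ha.1
      exact (hP C' hC' y).le ⟨haC, ha.2⟩)
  let P : PHom I I :=
    { G := fun y => (T.S y).map (LinearMap.id.prod LinearMap.id) ⊔ (C.S y).map (LinearMap.inl _ _ _)
      single := fun y b hb => by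
        obtain ⟨_, ⟨q, hq, rfl⟩, _, ⟨c, hc, rfl⟩, he⟩ := Submodule.mem_sup.1 hb
        have h1 : q + c = 0 := congrArg Prod.fst he
        have h2 : q + 0 = b := congrArg Prod.snd he
        have h3 : q ∈ (C.S y ⊓ T.S y : Submodule _ _) := ⟨by
          rw [eq_neg_of_add_eq_zero_left h1]; exact neg_mem hc, hq⟩
        rw [hC.1 y, Submodule.mem_bot] at h3
        rw [← h2, h3, add_zero]
      open' := fun y p hp => by
        obtain ⟨_, ⟨q, hq, rfl⟩, _, ⟨c, hc, rfl⟩, rfl⟩ := Submodule.mem_sup.1 hp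
        obtain ⟨U₁, h₁, s₁, rfl, hs₁⟩ := T.open' y q hq
        obtain ⟨U₂, h₂, s₂, rfl, hs₂⟩ := C.open' y c hc
        refine ⟨U₁ ⊓ U₂, ⟨h₁, h₂⟩, res I inf_le_left s₁ + res I inf_le_right s₂, res I inf_le_left s₁, ?_, ?_,
          fun z hz => ?_⟩
        · erw [gm_add, gm_res, gm_res]; rfl
        · erw [gm_res]; exact (add_zero _).symm
        · erw [gm_add, gm_res, gm_res]
          exact Submodule.mem_sup.2 ⟨_, ⟨_, hs₁ z hz.1, rfl⟩, _, ⟨_, hs₂ z hz.2, rfl⟩,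
            Prod.ext rfl (add_zero _)⟩ }
  obtain ⟨e, he⟩ := P.exists_extend
  have heT : ∀ y, ∀ a ∈ T.S y, stalkMapₗ e y a = a := fun y a ha =>
    he y a a (Submodule.mem_sup_left ⟨a, ha, rfl⟩)
  have heC : ∀ y, ∀ a ∈ C.S y, stalkMapₗ e y a = 0 := fun y a ha =>
    he y a 0 (Submodule.mem_sup_right ⟨a, ha, rfl⟩)
  have hle : T ≤ SubFam.range e := fun y a ha => ⟨a, heT y a ha⟩
  refine ⟨e, hT.2 ⟨hT.1.1.trans hle, fun U x hx s hs hs0 => ?_⟩ hle, heT⟩
  obtain ⟨z, hz⟩ := hs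
  obtain ⟨W₀, hW₀, σ₀, rfl⟩ := exists_gm I z
  rw [stalkMapₗ_gm] at hz
  obtain ⟨W, hWW₀, hWU, hxW, hW⟩ := exists_gm_eq hz
  let σ := res I hWW₀ σ₀
  have hσ : ∀ w (hw : w ∈ W), stalkMapₗ e w (gm I hw σ) = gm I (hWU hw) s := fun w hw => by
    rw [← hW w hw, stalkMapₗ_gm]
    exact congrArg _ (res_app e hWW₀ σ₀).symm |>.trans (gm_res _ _ _)
  have hnot : ¬ ∀ y, (SubFam.sup' C (SubFam.spanSec σ)).S y ⊓ T.S y = ⊥ := fun hdis => by
    have h1 := hC.2 hdis (SubFam.le_sup'_left _ _) x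
      ((SubFam.le_sup'_right C (SubFam.spanSec σ)) x (SubFam.gm_mem_spanSec σ hxW))
    exact hs0 ((hσ x hxW).symm.trans (heC x _ h1))
  obtain ⟨y, hy⟩ := not_forall.1 hnot
  obtain ⟨v, hv, hv0⟩ := Submodule.exists_mem_ne_zero_of_ne_bot hy
  obtain ⟨c, hc, w, hw, hcw⟩ := Submodule.mem_sup.1 ((SubFam.sup'_S C (SubFam.spanSec σ) y) ▸ hv.1)
  by_cases hyW : y ∈ W
  swap
  · have hw0 : w = 0 := by
      have h1 : (SubFam.spanSec σ).S y = ⊥ := eq_bot_iff.2 (Submodule.span_le.2 fun a ⟨h, _⟩ => absurd h hyW)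
      rwa [h1, Submodule.mem_bot] at hw
    subst hw0
    rw [add_zero] at hcw
    subst hcw
    exact absurd ((Submodule.mem_bot _).1 ((hC.1 y).le ⟨hc, hv.2⟩)) hv0
  have hw' : w ∈ Submodule.span (X.presheaf.stalk y) {gm I hyW σ} :=
    Submodule.span_mono (show {a | ∃ h : y ∈ W, gm I h σ = a} ⊆ {gm I hyW σ} from fun a ⟨_, ha⟩ => ha.symm) hw
  obtain ⟨r, rfl⟩ := Submodule.mem_span_singleton.1 hw'
  have hvr : v = r • gm I (hWU hyW) s := by
    rw [← heT y v hv.2, ← hcw, map_add, heC y c hc, zero_add, map_smul, hσ y hyW]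
  obtain ⟨W₁, hW₁, r₁, rfl⟩ := exists_gr r
  let W₂ := W₁ ⊓ W
  let s₂ : Γ(I, W₂) := resR (inf_le_left : W₂ ≤ W₁) r₁ • res I ((inf_le_right : W₂ ≤ W).trans hWU) s
  have hs₂ : ∀ w (hw : w ∈ W₂), gm I hw s₂ = gr hw.1 r₁ • gm I (hWU hw.2) s := fun w hw => by
    erw [gm_smul, gm_res, gr_res]
  have hy₂ : y ∈ W₂ := ⟨hW₁, hyW⟩
  obtain ⟨y', hy', r', h1, h2⟩ := hT.1.2 W₂ y hy₂ s₂ (by rw [hs₂, ← hvr]; exact hv.2)
    (by rw [hs₂, ← hvr]; exact hv0)
  refine ⟨y', hWU hy'.2, r' * gr hy'.1 r₁, ?_, ?_⟩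
  · rw [mul_smul, ← hs₂ y' hy']; exact h1
  · rw [mul_smul, ← hs₂ y' hy']; exact h2

variable [IsLocallyNoetherian X]

/-- The annihilators of a section. -/
def annFam {U : X.Opens} (s : Γ(M, U)) : SubFam (Coh.structureModule X) :=
  SubFam.ofGen (fun y => {a | ∃ (hy : y ∈ U) (r : X.presheaf.stalk y), r • gm M hy s = 0 ∧ r • oneAt y = a})
    fun y a ha => by
      obtain ⟨hy, r, hr, rfl⟩ := ha
      obtain ⟨W₁, h₁, r₁, rfl⟩ := exists_gr r
      have e1 : gm M (⟨h₁, hy⟩ : y ∈ W₁ ⊓ U)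
          (resR (inf_le_left : W₁ ⊓ U ≤ W₁) r₁ • res M (inf_le_right : W₁ ⊓ U ≤ U) s) =
          gm M (⟨h₁, hy⟩ : y ∈ W₁ ⊓ U) (0 : Γ(M, W₁ ⊓ U)) := by
        erw [gm_smul, gm_res, gr_res]
        rw [gm_zero]
        exact hr
      obtain ⟨W, hW, hW2, hyW, he⟩ := exists_gm_eq e1
      refine ⟨W, hyW, resR (hW.trans inf_le_left) r₁, by rw [gm_fun, gr_res], fun z hz => ?_⟩
      rw [gm_fun, gr_res]
      refine Submodule.subset_span ⟨(hW hz).2, gr (hW hz).1 r₁, ?_, rfl⟩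
      have := (he z hz).trans (gm_zero _)
      erw [gm_smul, gm_res, gr_res] at this
      exact this

lemma annFam_S {U : X.Opens} (s : Γ(M, U)) {y : X} (hy : y ∈ U) (r : X.presheaf.stalk y) :
    r • oneAt y ∈ (annFam s).S y ↔ r • gm M hy s = 0 := by
  constructor
  · intro h
    have : (annFam s).S y ≤ (LinearMap.ker (LinearMap.toSpanSingleton (X.presheaf.stalk y) _ (gm M hy s))).map
        (LinearMap.toSpanSingleton (X.presheaf.stalk y) _ (oneAt y)) :=
      Submodule.span_le.2 fun a ⟨_, r', hr', ha⟩ => ⟨r', hr', ha⟩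
    obtain ⟨r', hr', he⟩ := this h
    rw [← smul_oneAt_injective (y := y) he]
    exact hr'
  · intro h
    exact Submodule.subset_span ⟨hy, r, h, rfl⟩

/-- The injective hull of a quasi-coherent module is quasi-coherent. -/
theorem exists_qcoh_hull (J : X.Modules) [J.IsQuasicoherent] :
    ∃ (Q : X.Modules) (j : J ⟶ Q), Mono j ∧ Injective Q ∧ Q.IsQuasicoherent := by
  classical
  haveI : EnoughInjectives X.Modules := DerivedOX.Grothendieck.enoughInjectives_modules X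
  let I := Injective.under J
  let ι : J ⟶ I := Injective.ι J
  let T₀ := SubFam.range ι
  obtain ⟨T, hT₀, hT⟩ := SubFam.exists_maximal (Ess T₀) T₀
    ⟨le_rfl, fun U x hx s hs hs0 => ⟨x, hx, 1, by rwa [one_smul], by rwa [one_smul]⟩⟩
    (fun c hc hne hP => ⟨by
      obtain ⟨T', hT'⟩ := hne
      exact (hP T' hT').1.trans (SubFam.le_sSup' hT'), fun U x hx s hs hs0 => by
      obtain ⟨T', hT', hsT'⟩ := SubFam.mem_sSup'_chain hc hne hs
      exact (hP T' hT').2 U x hx s hsT' hs0⟩)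
  obtain ⟨e, he, heT⟩ := exists_retraction T₀ T hT
  let π := T.lift e he
  have hπ : T.ι ≫ π = 𝟙 T.obj := by
    rw [← cancel_mono T.ι, Category.assoc, SubFam.lift_ι, Category.id_comp]
    refine hom_ext_stalkMapₗ fun y => LinearMap.ext fun q => ?_
    rw [stalkMapₗ_comp, LinearMap.comp_apply]
    exact heT y _ ((show SubFam.range T.ι ≤ T from T.range_ι.le) y ⟨q, rfl⟩)
  haveI : Injective T.obj := ⟨fun {A B} g f _ => ⟨Injective.factorThru (g ≫ T.ι) f ≫ π, by
    rw [← Category.assoc, Injective.comp_factorThru, Category.assoc, hπ, Category.comp_id]⟩⟩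
  haveI : Mono (T.lift ι hT₀ ≫ T.ι) := by rw [SubFam.lift_ι]; infer_instance
  refine ⟨T.obj, T.lift ι hT₀, mono_of_mono (T.lift ι hT₀) T.ι, inferInstance,
    (isQCoh_iff_forall_affine (M := T.obj)).2 fun U hU f => ⟨fun s => ?_, fun t ht => ?_⟩⟩
  · obtain ⟨t, rfl⟩ := res_surjective T.obj (X.basicOpen_le f) s
    exact ⟨0, t, by rw [pow_zero, one_smul]⟩
  -- separation
  let t' : Γ(I, U) := T.ι.app U t
  have ht'T : ∀ z (hz : z ∈ U), gm I hz t' ∈ T.S z := fun z hz =>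
    (show SubFam.range T.ι ≤ T from T.range_ι.le) z ⟨gm T.obj hz t, stalkMapₗ_gm _ _ _⟩
  have ht'0 : ∀ z (hz : z ∈ U), z ∈ X.basicOpen f → gm I hz t' = 0 := fun z hz hzf => by
    rw [← stalkMapₗ_gm T.ι hz t, ← gm_res (M := T.obj) (X.basicOpen_le f) hzf t, ht, gm_zero, map_zero]
  let K : ℕ → SubFam (Coh.structureModule X) := fun n => annFam (f ^ n • t')
  have hKm : ∀ n k, n ≤ k → ∀ y (hy : y ∈ U) (r : X.presheaf.stalk y),
      r • oneAt y ∈ (K n).S y → r • oneAt y ∈ (K k).S y := by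
    intro n k hnk y hy r hr
    rw [annFam_S _ hy] at hr ⊢
    rw [← Nat.sub_add_cancel hnk, pow_add, mul_smul, gm_smul, smul_comm, hr, smul_zero]
  obtain ⟨L, hL, hgen⟩ := exists_gens hU (SubFam.sSup' (Set.range K))
  have hN : ∀ l ∈ L, ∃ N, ∀ y (hy : y ∈ U), y ∈ X.basicOpen l.1 → gr hy l.2 • oneAt y ∈ (K N).S y := by
    intro l hl
    have hloc : ∀ y : X.basicOpen l.1, ∃ (W : X.Opens) (N : ℕ), y.1 ∈ W ∧ ∀ z (hz : z ∈ U), z ∈ W →
        gr hz l.2 • oneAt z ∈ (K N).S z := by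
      rintro ⟨y, hyl⟩
      have hy : y ∈ U := X.basicOpen_le _ hyl
      obtain ⟨N, hN⟩ : ∃ N, gr hy l.2 • oneAt y ∈ (K N).S y := by
        obtain ⟨_, ⟨N, rfl⟩, hN⟩ := SubFam.mem_sSup'_chain (c := Set.range K) (M := Coh.structureModule X) (by
          rintro _ ⟨n, rfl⟩ _ ⟨k, rfl⟩ -
          rcases le_total n k with h | h
          · refine Or.inl fun z => Submodule.span_le.2 ?_
            rintro a ⟨hz, r, hr, rfl⟩
            exact hKm n k h z hz r (Submodule.subset_span ⟨hz, r, hr, rfl⟩)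
          · refine Or.inr fun z => Submodule.span_le.2 ?_
            rintro a ⟨hz, r, hr, rfl⟩
            exact hKm k n h z hz r (Submodule.subset_span ⟨hz, r, hr, rfl⟩))
          (Set.range_nonempty K) (hL l hl y hy hyl)
        exact ⟨N, hN⟩
      rw [← gm_fun] at hN
      obtain ⟨W, hW, hyW, hWz⟩ := (K N).exists_nhd hy hN
      exact ⟨W, N, hyW, fun z hz hzW => by rw [← gm_fun]; exact hWz z hzW⟩
    choose W N hmem hW using hloc
    obtain ⟨S, hS⟩ := (hU.basicOpen l.1).isCompact.elim_finite_subcover (fun y => (W y : Set X))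
      (fun y => (W y).2) fun y hy => Set.mem_iUnion.2 ⟨⟨y, hy⟩, hmem ⟨y, hy⟩⟩
    refine ⟨S.sup N, fun y hy hyl => ?_⟩
    obtain ⟨i, hiS, hi⟩ := Set.mem_iUnion₂.1 (hS hyl)
    exact hKm _ _ (Finset.le_sup hiS) y hy _ (hW i y hy hi)
  choose N hN using hN
  let N₀ := L.attach.sup fun l => N l.1 l.2
  have hstab : ∀ n y (hy : y ∈ U) (r : X.presheaf.stalk y), r • oneAt y ∈ (K n).S y → r • oneAt y ∈ (K N₀).S y := by
    intro n y hy r hr
    refine (Submodule.span_le (p := ((K N₀).S y).comap (LinearMap.toSpanSingleton _ _ (oneAt y)))).2 ?_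
      (hgen y hy r (SubFam.le_sSup' (Set.mem_range_self n) y hr))
    rintro _ ⟨l, hl, hyl, rfl⟩
    exact hKm _ _ (Finset.le_sup (f := fun l : {l // l ∈ L} => N l.1 l.2) (Finset.mem_attach L ⟨l, hl⟩)) y hy _
      (hN l hl y hy hyl)
  refine ⟨N₀, section_eq_of_gm (M := T.obj) _ _ fun x hx => T.stalkMap_ι_injective x ?_⟩
  rw [gm_zero, map_zero, stalkMapₗ_gm, Scheme.Modules.Hom.app_smul]
  by_contra hne
  obtain ⟨y, hy, r, hr, hr0⟩ := hT.1.2 U x hx (f ^ N₀ • t')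
    (by rw [gm_smul]; exact Submodule.smul_mem _ _ (ht'T x hx)) hne
  obtain ⟨k, hk⟩ := hr
  obtain ⟨W₁, hW₁, κ, rfl⟩ := exists_gm J k
  rw [stalkMapₗ_gm] at hk
  obtain ⟨W₂, hW₂, r₂, rfl⟩ := exists_gr r
  have hk' : gm I (⟨hW₂, hy⟩ : y ∈ W₂ ⊓ U)
      (resR (inf_le_left : W₂ ⊓ U ≤ W₂) r₂ • res I (inf_le_right : W₂ ⊓ U ≤ U) (f ^ N₀ • t')) =
      gm I hW₁ (ι.app W₁ κ) := by
    erw [gm_smul, gm_res, gr_res]
    exact hk.symm
  obtain ⟨W, hWa, hWb, hyW, hWeq⟩ := exists_gm_eq hk'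
  obtain ⟨h, hle, hyh⟩ := hU.exists_basicOpen_le (V := W) ⟨y, hyW⟩ hy
  have hzero : res J (X.basicOpen_le (resR (X.basicOpen_le h) f)) (res J (hle.trans hWb) κ) = 0 := by
    refine section_eq_of_gm (M := J) _ _ fun z hz => ?_
    have hzD : z ∈ X.basicOpen h := X.basicOpen_le _ hz
    rw [gm_res, gm_res, gm_zero]
    refine (mono_iff_stalkMapₗ_injective ι).1 inferInstance z ?_
    rw [map_zero, stalkMapₗ_gm, ← hWeq z (hle hzD)]
    erw [gm_smul, gm_res, gr_res]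
    rw [gm_smul, ht'0 z _ (basicOpen_le_of_resR (X.basicOpen_le h) f hz), smul_zero, smul_zero]
  obtain ⟨m, hm⟩ := (localizes_of_isAffineOpen J (hU.basicOpen h) (resR (X.basicOpen_le h) f)).sep _ hzero
  refine hr0 ?_
  have hK : gr hW₂ r₂ • oneAt y ∈ (K (m + N₀)).S y := by
    rw [annFam_S _ hy, pow_add, mul_smul, gm_smul, smul_comm, ← hk, ← stalkMapₗ_gm, ← map_smul]
    refine (congrArg _ ?_).trans (map_zero (stalkMapₗ ι y))
    have := congrArg (gm J hyh) hm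
    erw [gm_smul, gm_res, gm_zero] at this
    rw [gr, map_pow] at this ⊢
    rwa [show (X.presheaf.germ _ y hyh) (resR (X.basicOpen_le h) f) = X.presheaf.germ U y hy f from
      gr_res _ hyh f] at this
  exact (annFam_S _ hy _).1 (hstab _ y hy _ hK)

/-- Injective quasi-coherent modules are injective modules. -/
theorem injective_obj_of_injective_qcoh (J : ObjectProperty.FullSubcategory (fun M : X.Modules => Coh.IsQCoh M))
    (hJ : Injective J) : Injective J.obj := by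
  haveI : J.obj.IsQuasicoherent := J.property
  obtain ⟨Q, j, hj, hQ, hQc⟩ := exists_qcoh_hull J.obj
  let Q' : ObjectProperty.FullSubcategory (fun M : X.Modules => Coh.IsQCoh M) := ⟨Q, hQc⟩
  let j' : J ⟶ Q' := ObjectProperty.homMk j
  haveI : Mono j' := Functor.mono_of_mono_map (ObjectProperty.ι _) (show Mono j from hj)
  obtain ⟨r, hr⟩ := hJ.factors (𝟙 J) j'
  exact ⟨fun {A B} g f _ => ⟨Injective.factorThru (g ≫ j) f ≫ r.hom, by
    rw [← Category.assoc, Injective.comp_factorThru, Category.assoc]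
    refine (congrArg (g ≫ ·) ?_).trans (Category.comp_id g)
    exact congrArg (fun φ => φ.hom) hr⟩⟩

end

end Groth.Agent.Lib.InjMod
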