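import Groth.Agent.Lib.InjMod.QCohInj
import Groth.Agent.Lib.InjMod.Stalk
import Mathlib.AlgebraicGeometry.Modules.Tilde

/-!
# Flasqueness of injective modules; injectivity of `tilde`
-/

set_option autoImplicit false
universe u

open CategoryTheory Limits AlgebraicGeometry Opposite TopologicalSpace

namespace Groth.Agent.Lib.InjMod

open Groth.Agent.Lib.Modules StalkModule Groth.Agent.Lib.QCoh.Localizing

noncomputable section

/-- Injective modules are flasque. -/
theorem res_surjective {X : Scheme.{u}} (F : X.Modules) [Injective F] {U V : X.Opens} (hUV : U ≤ V) :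
    Function.Surjective (res F hUV) := by
  intro t
  have hsingle : ∀ y (hy : y ∈ U) (a : Fin 1 → X.presheaf.stalk y),
      ∑ i, a i * gr hy ((fun _ : Fin 1 => (1 : Γ(X, U))) i) = 0 →
        ∑ i, a i • gm F hy ((fun _ : Fin 1 => t) i) = 0 := fun y hy a h => by
    rw [Fin.sum_univ_one] at h ⊢
    rw [gr, map_one, mul_one] at h
    rw [h, zero_smul]
  obtain ⟨t', ht'⟩ := (PHom.ofPairs (F := F) _ _ hsingle).exists_section V
  refine ⟨t', section_eq_of_gm (M := F) _ _ fun y hy => ?_⟩
  have := ht' y (hUV hy) _ _ (PHom.mem_ofPairs _ _ hsingle hy 0)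
  rw [gr, map_one, one_smul] at this
  rw [gm_res, ← this]

/-- `tilde` of an injective module over a Noetherian ring is injective. -/
theorem injective_tilde (R : CommRingCat.{u}) [IsNoetherianRing R] (M : ModuleCat.{u} R)
    (hM : Module.Injective R M) : Injective (tilde M) := by
  haveI : (tilde M).IsQuasicoherent := inferInstance
  refine injective_of_stalks fun x => ?_
  letI : Algebra R ((Spec R).presheaf.stalk x) := StructureSheaf.stalkAlgebra R x
  haveI : IsLocalization.AtPrime ((Spec R).presheaf.stalk x) x.asIdeal :=
    StructureSheaf.IsLocalization.to_stalk R x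
  haveI : IsScalarTower R ((Spec R).presheaf.stalk x) ((tilde M).presheaf.stalk x) :=
    .of_algebraMap_smul fun _ _ => rfl
  exact Module.injective_of_isLocalizedModule x.asIdeal.primeCompl (tilde.toStalk M x).hom

end

end Groth.Agent.Lib.InjMod
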