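import Groth.Agent.Lib.InjMod.Affine
import Groth.Agent.Lib.StalkLoc.Basic
import Groth.Agent.Lib.LocalCoh.Torsion
import Groth.Agent.Lib.QCoh.Localizing
import Mathlib.RingTheory.LocalProperties.Injective

/-!
# Quasi-coherent modules with injective stalks are injective
-/

set_option autoImplicit false
universe u

open CategoryTheory Limits AlgebraicGeometry Opposite TopologicalSpace

namespace Groth.Agent.Lib.InjMod

open Groth.Agent.Lib Groth.Agent.Lib.Modules StalkModule Groth.Agent.Lib.QCoh.Localizing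

noncomputable section

/-- Elements of an injective module are divisible up to the torsion of the divisor. -/
theorem exists_pow_smul_eq {A : Type u} [CommRing A] [IsNoetherianRing A] {T : Type u} [AddCommGroup T]
    [Module A T] (hT : Module.Injective A T) (s : A) (m : T) :
    ∃ (e : T) (n : ℕ), s ^ (n + 1) • e = s ^ n • m := by
  classical
  let f : ℕ →o Ideal A := ⟨fun n => LinearMap.ker (LinearMap.toSpanSingleton A A (s ^ n)),
    fun a b hab r hr => by
      rw [LinearMap.mem_ker, LinearMap.toSpanSingleton_apply, smul_eq_mul] at hr ⊢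
      rw [← Nat.sub_add_cancel hab, pow_add, mul_left_comm, hr, mul_zero]⟩
  obtain ⟨n, hn⟩ := monotone_stabilizes_iff_noetherian.2 (inferInstance : IsNoetherian A A) f
  let τ := LinearMap.toSpanSingleton A A (s ^ (n + 1))
  let σ : A →ₗ[A] T := LinearMap.toSpanSingleton A T (s ^ n • m)
  have hle : LinearMap.ker τ ≤ LinearMap.ker σ := fun r hr => by
    have h1 : r ∈ f n := (hn (n + 1) n.le_succ).symm.le hr
    rw [LinearMap.mem_ker]
    show r • s ^ n • m = 0
    rw [← mul_smul, show r * s ^ n = 0 from h1, zero_smul]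
  obtain ⟨h, hh⟩ := hT.out ((LinearMap.ker τ).liftQ τ le_rfl)
    (LinearMap.ker_eq_bot.1 ((LinearMap.ker τ).ker_liftQ_eq_bot τ le_rfl le_rfl)) ((LinearMap.ker τ).liftQ σ hle)
  refine ⟨h 1, n, ?_⟩
  have h1 := hh (Submodule.Quotient.mk 1)
  rw [Submodule.liftQ_apply, Submodule.liftQ_apply] at h1
  simp only [τ, σ, LinearMap.toSpanSingleton_apply, one_smul] at h1
  rw [← map_smul, smul_eq_mul, mul_one, h1]

variable {X : Scheme.{u}} {F : X.Modules} [F.IsQuasicoherent] [IsLocallyNoetherian X]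
  (hst : ∀ x : X, Module.Injective (X.presheaf.stalk x) (F.presheaf.stalk x))

include hst in
theorem injective_sections {V : X.Opens} (hV : IsAffineOpen V) : Module.Injective Γ(X, V) Γ(F, V) := by
  haveI := isNoetherianRing_sections hV
  choose pt hpt hpr using fun (P : Ideal Γ(X, V)) (_ : P.IsMaximal) =>
    AssPt.Basic.exists_point_of_prime hV P
  let Rp : ∀ (P : Ideal Γ(X, V)) [P.IsMaximal], Type u := fun P h => X.presheaf.stalk (pt P h)
  let Mp : ∀ (P : Ideal Γ(X, V)) [P.IsMaximal], Type u := fun P h => F.presheaf.stalk (pt P h)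
  letI alg : ∀ (P : Ideal Γ(X, V)) [P.IsMaximal], Algebra Γ(X, V) (Rp P) := fun P h =>
    TopCat.Presheaf.algebra_section_stalk X.presheaf (⟨pt P h, hpt P h⟩ : V)
  letI mod : ∀ (P : Ideal Γ(X, V)) [P.IsMaximal], Module Γ(X, V) (Mp P) := fun P h =>
    StalkLoc.Basic.moduleSections F (hpt P h)
  haveI : ∀ (P : Ideal Γ(X, V)) [P.IsMaximal], IsScalarTower Γ(X, V) (Rp P) (Mp P) := fun P h =>
    StalkLoc.Basic.isScalarTower_sections F (hpt P h)
  haveI : ∀ (P : Ideal Γ(X, V)) [P.IsMaximal], IsLocalization.AtPrime (Rp P) P := fun P h => by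
    have e := hV.isLocalization_stalk ⟨pt P h, hpt P h⟩
    simp only [hpr P h] at e
    exact e
  let f : ∀ (P : Ideal Γ(X, V)) [P.IsMaximal], Γ(F, V) →ₗ[Γ(X, V)] Mp P := fun P h =>
    StalkLoc.Basic.germₗ F (hpt P h)
  haveI : ∀ (P : Ideal Γ(X, V)) [P.IsMaximal], IsLocalizedModule P.primeCompl (f P) := fun P h => by
    have e := StalkLoc.Basic.isLocalizedModule_germ (M := F) hV (hpt P h)
    simp only [hpr P h] at e
    exact e
  exact Module.injective_of_localization_maximal' (f := f) Rp Mp fun P h => hst (pt P h)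

include hst in
/-- Quasi-coherent modules with injective stalks are injective. -/
theorem injective_of_stalks : Injective F := by
  classical
  refine injective_of_extend fun P x₀ => ?_
  obtain ⟨V, hV, hxV, -⟩ := exists_isAffineOpen_mem_and_subset (U := ⊤) (x := x₀) trivial
  haveI := isNoetherianRing_sections hV
  have hM := injective_sections hst hV
  let good : Ideal Γ(X, V) → Prop := fun c => ∃ t : Γ(F, V), ∀ y (hy : y ∈ V), ¬ c ≤ pr hV hy →
    ∀ (r : X.presheaf.stalk y) b, (r • oneAt y, b) ∈ P.G y → b = r • gm F hy t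
  obtain ⟨c, ⟨t, ht⟩, hmax⟩ := set_has_maximal_iff_noetherian.2 (inferInstance : IsNoetherian Γ(X, V) Γ(X, V))
    {c | good c} ⟨⊥, 0, fun y hy h => absurd bot_le h⟩
  by_cases hc : c = ⊤
  · subst hc
    exact ⟨V, hxV, t, fun y hy => ht y hy fun h => (hV.primeIdealOf ⟨y, hy⟩).isPrime.ne_top (top_le_iff.1 h)⟩
  exfalso
  obtain ⟨x, hx, g, hcx, hgx, hspec⟩ := exists_generic hV hc
  let a : Ideal (X.presheaf.stalk x) := (P.dom x).comap (LinearMap.toSpanSingleton _ _ (oneAt x))
  have ha : ∀ r : a, ∃ b, (r.1 • oneAt x, b) ∈ P.G x := fun r => P.mem_dom.1 r.2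
  choose β hβ using ha
  let ψ : a →ₗ[X.presheaf.stalk x] F.presheaf.stalk x :=
    { toFun := fun r => β r - r.1 • gm F hx t
      map_add' := fun r r' => by
        rw [P.unique (hβ (r + r')) (by
          show (((r : X.presheaf.stalk x) + r') • oneAt x, β r + β r') ∈ P.G x
          rw [add_smul]; exact (P.G x).add_mem (hβ r) (hβ r'))]
        show β r + β r' - ((r : X.presheaf.stalk x) + r') • gm F hx t = _
        rw [add_smul]; abel
      map_smul' := fun e r => by
        rw [P.unique (hβ (e • r)) (by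
          show ((e * r : X.presheaf.stalk x) • oneAt x, e • β r) ∈ P.G x
          rw [mul_smul]; exact (P.G x).smul_mem e (hβ r))]
        show e • β r - (e * r : X.presheaf.stalk x) • gm F hx t = e • (β r - r.1 • gm F hx t)
        rw [mul_smul, smul_sub] }
  -- values are killed by powers of `c`
  let cx : Ideal (X.presheaf.stalk x) := Ideal.map (X.presheaf.germ V x hx).hom c
  have hψ : ∀ r : a, ψ r ∈ DRing.torsionSub cx (F.presheaf.stalk x) := by
    intro r
    suffices h : ∀ f ∈ c, gr hx f ∈ Ideal.radical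
        (LinearMap.ker (LinearMap.toSpanSingleton (X.presheaf.stalk x) (F.presheaf.stalk x) (ψ r))) by
      obtain ⟨N, hN⟩ := Ideal.exists_pow_le_of_le_radical_of_fg (Ideal.map_le_iff_le_comap.2 h)
        (Ideal.FG.map (IsNoetherian.noetherian c : c.FG) _)
      exact ⟨N, fun e he => hN he⟩
    intro f hf
    obtain ⟨U₁, h₁, r₁, hr₁⟩ := exists_gr r.1
    obtain ⟨U₂, h₂, τ, hτ⟩ := exists_gm F (β r)
    have h3 : (gm (Coh.structureModule X) h₁ r₁, gm F h₂ τ) ∈ P.G x := by
      rw [gm_fun, hr₁, hτ]; exact hβ r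
    obtain ⟨W, hW₁, hW₂, hxW, hW⟩ := P.exists_nhd h₁ h₂ h3
    obtain ⟨h, hle, hxh⟩ := hV.exists_basicOpen_le (V := W) ⟨x, hxW⟩ hx
    let D := X.basicOpen h
    have hDV : D ≤ V := X.basicOpen_le h
    let σ : Γ(F, D) := res F (hle.trans hW₂) τ - resR (hle.trans hW₁) r₁ • res F hDV t
    have hσ : gm F hxh σ = ψ r := by
      show gm F hxh (_ - _) = _
      rw [gm_sub, gm_smul, gm_res, gm_res, gr_res, hr₁, hτ]
      rfl
    have hzero : res F (X.basicOpen_le (resR hDV f)) σ = 0 := by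
      refine section_eq_of_gm (M := F) _ _ fun z hz => ?_
      have hzD : z ∈ D := X.basicOpen_le _ hz
      have hzf : ¬ c ≤ pr hV (hDV hzD) := fun hle' =>
        (mem_basicOpen_iff hV (hDV hzD) f).1 (basicOpen_le_of_resR hDV f hz) (hle' hf)
      have hp := hW z (hle hzD)
      rw [gm_fun] at hp
      have := ht z (hDV hzD) hzf _ _ hp
      rw [gm_res, gm_zero]
      show gm F hzD (_ - _) = 0
      rw [gm_sub, gm_smul, gm_res, gm_res, gr_res, this, sub_self]
    obtain ⟨N, hN⟩ := (localizes_of_isAffineOpen F (hV.basicOpen h) (resR hDV f)).sep σ hzero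
    refine ⟨N, ?_⟩
    show gr hx f ^ N • ψ r = 0
    rw [← hσ]
    have := congrArg (gm F hxh) hN
    rw [gm_smul, gm_zero, gr, map_pow] at this
    rw [show gr hx f = gr hxh (resR hDV f) from (gr_res hDV hxh f).symm]
    exact this
  haveI : Module.Injective (X.presheaf.stalk x) (F.presheaf.stalk x) := hst x
  obtain ⟨h, hh⟩ := (LocalCoh.injective_torsionSub cx (F.presheaf.stalk x)).out a.subtype a.injective_subtype
    (ψ.codRestrict _ hψ)
  let m : F.presheaf.stalk x := (h 1).1
  have hm : ∀ r : a, ψ r = r.1 • m := fun r => by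
    have h1 : h r.1 = ψ.codRestrict _ hψ r := hh r
    have h2 : h r.1 = r.1 • h 1 := by rw [← map_smul, smul_eq_mul, mul_one]
    exact (congrArg Subtype.val h1).symm.trans (congrArg Subtype.val h2)
  -- a section supported on `V(c)` with germ `m`
  obtain ⟨e, hetor, hex⟩ : ∃ e : Γ(F, V), e ∈ DRing.torsionSub c Γ(F, V) ∧ gm F hx e = m := by
    letI := StalkLoc.Basic.moduleSections F hx
    haveI := StalkLoc.Basic.isLocalizedModule_germ (M := F) hV hx
    obtain ⟨⟨m₁, s⟩, hs⟩ := IsLocalizedModule.surj (pr hV hx).primeCompl (StalkLoc.Basic.germₗ F hx) m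
    obtain ⟨N, hN⟩ := (h 1).2
    have h0 : ∀ q ∈ c ^ N, gm F hx (q • m₁) = 0 := fun q hq => by
      rw [gm_smul, show gm F hx m₁ = gr hx s.1 • m from hs.symm, ← mul_smul, mul_comm, mul_smul,
        hN (gr hx q) (by show _ ∈ cx ^ N; rw [← Ideal.map_pow]; exact Ideal.mem_map_of_mem _ hq), smul_zero]
    obtain ⟨S, hS⟩ := (IsNoetherian.noetherian (c ^ N) : (c ^ N).FG)
    choose u hu using fun q : S => (IsLocalizedModule.eq_zero_iff (pr hV hx).primeCompl
      (StalkLoc.Basic.germₗ F hx)).1 (h0 q.1 (hS ▸ Submodule.subset_span q.2))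
    let u₀ := ∏ q : S, (u q).1
    have hu₀ : u₀ ∈ (pr hV hx).primeCompl := Submonoid.prod_mem _ fun q _ => (u q).2
    have hmT : u₀ • m₁ ∈ DRing.torsionSub c Γ(F, V) := by
      refine ⟨N, fun q hq => ?_⟩
      rw [← hS] at hq
      induction hq using Submodule.span_induction with
      | mem q hq =>
        rw [smul_comm]
        obtain ⟨v, hv⟩ : (u ⟨q, hq⟩).1 ∣ u₀ := Finset.dvd_prod_of_mem (fun q : S => (u q).1) (Finset.mem_univ _)
        rw [hv, mul_comm, mul_smul]
        exact (congrArg (v • ·) (hu ⟨q, hq⟩)).trans (smul_zero v)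
      | zero => exact zero_smul _ _
      | add q q' _ _ hq hq' => rw [add_smul, hq, hq', add_zero]
      | smul d q _ hq => rw [smul_eq_mul, mul_smul, hq, smul_zero]
    haveI := hM
    obtain ⟨e, n, he⟩ := exists_pow_smul_eq (LocalCoh.injective_torsionSub c Γ(F, V)) (u₀ * s.1) ⟨u₀ • m₁, hmT⟩
    refine ⟨e.1, e.2, ?_⟩
    have he' := congrArg (fun e : DRing.torsionSub c Γ(F, V) => gm F hx e.1) he
    simp only [Submodule.coe_smul, gm_smul] at he'
    have hus : IsUnit (gr hx (u₀ * s.1)) := (isUnit_gr_iff hV hx _).2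
      fun h' => (Ideal.IsPrime.mem_or_mem inferInstance h').elim hu₀ s.2
    have hu' : IsUnit (gr hx u₀) := (isUnit_gr_iff hV hx _).2 hu₀
    rw [show gr hx ((u₀ * s.1) ^ (n + 1)) = gr hx ((u₀ * s.1) ^ n) * gr hx (u₀ * s.1) by
      rw [pow_succ, gr, map_mul], mul_smul,
      show gm F hx m₁ = gr hx s.1 • m from hs.symm, ← mul_smul (gr hx u₀),
      show gr hx u₀ * gr hx s.1 = gr hx (u₀ * s.1) from (map_mul (X.presheaf.germ V x hx).hom _ _).symm] at he'
    have hpow : IsUnit (gr hx ((u₀ * s.1) ^ n)) := by rw [gr, map_pow]; exact hus.pow n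
    exact hus.smul_left_cancel.1 (hpow.smul_left_cancel.1 he')
  have he0 : ∀ y (hy : y ∈ V), ¬ c ≤ pr hV hy → gm F hy e = 0 := by
    intro y hy hcy
    obtain ⟨N, hN⟩ := hetor
    obtain ⟨f, hf, hfy⟩ := SetLike.not_le_iff_exists.1 hcy
    have := congrArg (gm F hy) (hN _ (Ideal.pow_mem_pow hf N))
    rw [gm_smul, gm_zero, gr, map_pow] at this
    exact (((isUnit_gr_iff hV hy f).2 hfy).pow N).smul_left_cancel.1 (this.trans (smul_zero _).symm)
  -- compatibility near `x`
  let b : Ideal Γ(X, V) := a.comap (X.presheaf.germ V x hx).hom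
  obtain ⟨S, hS⟩ := (IsNoetherian.noetherian b : b.FG)
  have hnhd : ∀ q ∈ S, ∃ W : X.Opens, ∃ hWV : W ≤ V, x ∈ W ∧
      ∀ z (hz : z ∈ W), (gr (hWV hz) q • oneAt z, gr (hWV hz) q • gm F (hWV hz) (t + e)) ∈ P.G z := by
    intro q hq
    have hqa : gr hx q ∈ a := show q ∈ b from hS ▸ Submodule.subset_span hq
    have h1 : (gm (Coh.structureModule X) hx q, gm F hx (q • (t + e))) ∈ P.G x := by
      rw [gm_fun, gm_smul, gm_add, hex, smul_add, ← hm ⟨_, hqa⟩]
      show (_, _ + (β ⟨_, hqa⟩ - _)) ∈ P.G x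
      rw [add_sub_cancel]
      exact hβ ⟨_, hqa⟩
    obtain ⟨W, hW, hW2, hxW, hWz⟩ := P.exists_nhd hx hx h1
    refine ⟨W, hW, hxW, fun z hz => ?_⟩
    have := hWz z hz
    rwa [gm_fun, gm_smul] at this
  choose W hWV hxW hW using hnhd
  obtain ⟨g₀, hxg₀, hle₀⟩ := exists_basicOpen_le_inter hV hx S.attach (fun q => W q.1 q.2)
    fun q _ => hxW q.1 q.2
  let g' := g * g₀
  have hg' : g' ∉ pr hV hx := fun h' => (Ideal.IsPrime.mem_or_mem inferInstance h').elim hgx
    ((mem_basicOpen_iff hV hx g₀).1 hxg₀)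
  refine hmax (c ⊔ Ideal.span {g'}) ⟨t + e, fun y hy hne r b' hb => ?_⟩
    (lt_of_le_not_ge le_sup_left fun h' => hg' (hcx (h' (Ideal.mem_sup_right (Ideal.mem_span_singleton_self g')))))
  by_cases hcy : c ≤ pr hV hy
  swap
  · rw [gm_add, he0 y hy hcy, add_zero]
    exact ht y hy hcy r b' hb
  have hg'y : g' ∉ pr hV hy := fun h' => hne (sup_le hcy ((Ideal.span_singleton_le_iff_mem _).2 h'))
  have hxy : x ⤳ y := hspec y hy hcy fun h' => hg'y (Ideal.mul_mem_right _ _ h')
  have hy₀ : y ∈ X.basicOpen g₀ := (mem_basicOpen_iff hV hy g₀).2 fun h' => hg'y (Ideal.mul_mem_left _ _ h')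
  obtain ⟨d, s, hs, hds⟩ := exists_fraction hV hy r
  have hd : gm (Coh.structureModule X) hy d ∈ P.domFam.S y := by
    rw [gm_fun, ← hds, mul_comm, mul_smul]
    exact Submodule.smul_mem _ _ (P.mem_dom.2 ⟨b', hb⟩)
  obtain ⟨W', hW'V, hyW', hW'⟩ := P.domFam.exists_nhd hy hd
  have hdb : d ∈ b := by
    have h1 := hW' x (hxy.mem_open W'.isOpen hyW')
    rw [gm_fun] at h1
    exact h1
  have hgood : gr hy d • (oneAt y, gm F hy (t + e)) ∈ P.G y := by
    rw [← hS] at hdb
    clear hds hd hW'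
    induction hdb using Submodule.span_induction with
    | mem q hq => exact hW q hq y (hle₀ ⟨q, hq⟩ (Finset.mem_attach _ _) hy₀)
    | zero => rw [gr, map_zero, zero_smul]; exact zero_mem _
    | add q q' _ _ hq hq' => rw [gr, map_add, add_smul]; exact (P.G y).add_mem hq hq'
    | smul d q _ hq => rw [gr, smul_eq_mul, map_mul, mul_smul]; exact (P.G y).smul_mem _ hq
  refine P.unique hb ?_
  have h2 := (P.G y).smul_mem (↑hs.unit⁻¹ : X.presheaf.stalk y) hgood
  rw [← mul_smul, ← hds, mul_left_comm, IsUnit.val_inv_mul, mul_one] at h2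
  exact h2

end

end Groth.Agent.Lib.InjMod
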