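import Groth.Agent.Lib.Modules.StalkModule
import Groth.Agent.Lib.QCoh.Localizing
import Mathlib.Topology.Sheaves.SheafCondition.UniqueGluing

/-!
# Submodules and partial homomorphisms of `O_X`-modules given stalkwise

`SubFam M` is a family of submodules of the stalks of `M` that is spread out by sections; it is the
same as a submodule of `M` (`SubFam.obj`). `PHom M F` is a spread out single valued relation
between the stalks of `M` and `F`; it is the same as a homomorphism to `F` from a submodule of `M`.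
-/

set_option autoImplicit false
universe u

open CategoryTheory Limits AlgebraicGeometry Opposite TopologicalSpace

namespace Groth.Agent.Lib.InjMod

open Groth.Agent.Lib.Modules StalkModule Groth.Agent.Lib.QCoh.Localizing

noncomputable section

variable {X : Scheme.{u}} {M N F : X.Modules}

/-- The germ of a section of a module. -/
noncomputable abbrev gm (M : X.Modules) {U : X.Opens} {y : X} (hy : y ∈ U) (s : Γ(M, U)) :
    M.presheaf.stalk y :=
  M.presheaf.germ U y hy s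

/-- The germ of a function. -/
noncomputable abbrev gr {U : X.Opens} {y : X} (hy : y ∈ U) (r : Γ(X, U)) : X.presheaf.stalk y :=
  X.presheaf.germ U y hy r

lemma gm_res {U V : X.Opens} (h : V ≤ U) {y : X} (hy : y ∈ V) (s : Γ(M, U)) :
    gm M hy (res M h s) = gm M (h hy) s :=
  TopCat.Presheaf.germ_res_apply M.presheaf (homOfLE h) y hy s

lemma gr_res {U V : X.Opens} (h : V ≤ U) {y : X} (hy : y ∈ V) (r : Γ(X, U)) :
    gr hy (resR h r) = gr (h hy) r :=
  TopCat.Presheaf.germ_res_apply X.presheaf (homOfLE h) y hy r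

lemma gm_add {U : X.Opens} {y : X} (hy : y ∈ U) (s t : Γ(M, U)) :
    gm M hy (s + t) = gm M hy s + gm M hy t :=
  map_add (M.presheaf.germ U y hy).hom s t

lemma gm_sub {U : X.Opens} {y : X} (hy : y ∈ U) (s t : Γ(M, U)) :
    gm M hy (s - t) = gm M hy s - gm M hy t :=
  map_sub (M.presheaf.germ U y hy).hom s t

lemma gm_zero {U : X.Opens} {y : X} (hy : y ∈ U) : gm M hy (0 : Γ(M, U)) = 0 :=
  map_zero (M.presheaf.germ U y hy).hom

lemma gm_smul {U : X.Opens} {y : X} (hy : y ∈ U) (r : Γ(X, U)) (s : Γ(M, U)) :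
    gm M hy (r • s) = gr hy r • gm M hy s :=
  germ_smul hy r s

lemma stalkMapₗ_gm (φ : M ⟶ N) {U : X.Opens} {y : X} (hy : y ∈ U) (s : Γ(M, U)) :
    stalkMapₗ φ y (gm M hy s) = gm N hy (φ.app U s) :=
  stalkMapₗ_germ φ hy s

lemma exists_gm (M : X.Modules) {y : X} (a : M.presheaf.stalk y) :
    ∃ (U : X.Opens) (hy : y ∈ U) (s : Γ(M, U)), gm M hy s = a :=
  TopCat.Presheaf.exists_germ_eq M.presheaf a

lemma exists_gr {y : X} (a : X.presheaf.stalk y) :
    ∃ (U : X.Opens) (hy : y ∈ U) (r : Γ(X, U)), gr hy r = a :=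
  TopCat.Presheaf.exists_germ_eq X.presheaf a

/-- Equal germs come from equal germs nearby. -/
lemma exists_gm_eq {U V : X.Opens} {y : X} {hU : y ∈ U} {hV : y ∈ V} {s : Γ(M, U)} {t : Γ(M, V)}
    (h : gm M hU s = gm M hV t) :
    ∃ W : X.Opens, ∃ hWU : W ≤ U, ∃ hWV : W ≤ V, y ∈ W ∧
      ∀ z (hz : z ∈ W), gm M (hWU hz) s = gm M (hWV hz) t := by
  obtain ⟨W, hW, i, j, e⟩ := TopCat.Presheaf.germ_eq M.presheaf y hU hV s t h
  refine ⟨W, i.le, j.le, hW, fun z hz => ?_⟩
  rw [gm, gm, ← TopCat.Presheaf.germ_res_apply M.presheaf i z hz,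
    ← TopCat.Presheaf.germ_res_apply M.presheaf j z hz, e]

lemma section_eq_of_gm {U : X.Opens} (s t : Γ(M, U)) (h : ∀ z (hz : z ∈ U), gm M hz s = gm M hz t) :
    s = t :=
  TopCat.Presheaf.section_ext (⟨M.presheaf, M.isSheaf⟩ : TopCat.Sheaf AddCommGrpCat.{u} X) U s t h

/-- Spread out submodules of the stalks. -/
structure SubFam (M : X.Modules) where
  /-- The submodules. -/
  S : ∀ y : X, Submodule (X.presheaf.stalk y) (M.presheaf.stalk y)
  open' : ∀ (y : X) (a : M.presheaf.stalk y), a ∈ S y →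
    ∃ (U : X.Opens) (hy : y ∈ U) (s : Γ(M, U)), gm M hy s = a ∧ ∀ z (hz : z ∈ U), gm M hz s ∈ S z

namespace SubFam

instance : PartialOrder (SubFam M) :=
  PartialOrder.lift (fun T => T.S) fun T T' h => by cases T; cases T'; congr

lemma exists_nhd (T : SubFam M) {U : X.Opens} {y : X} (hy : y ∈ U) {s : Γ(M, U)} (h : gm M hy s ∈ T.S y) :
    ∃ (W : X.Opens) (hWU : W ≤ U), y ∈ W ∧ ∀ z (hz : z ∈ W), gm M (hWU hz) s ∈ T.S z := by
  obtain ⟨V, hV, t, ht, hT⟩ := T.open' y _ h
  obtain ⟨W, hWU, hWV, hyW, he⟩ := exists_gm_eq ht.symm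
  exact ⟨W, hWU, hyW, fun z hz => (he z hz).symm ▸ hT z (hWV hz)⟩

/-- The family spanned by spread out subsets. -/
def ofGen (T : ∀ y : X, Set (M.presheaf.stalk y))
    (h : ∀ (y : X) (a : M.presheaf.stalk y), a ∈ T y → ∃ (U : X.Opens) (hy : y ∈ U) (s : Γ(M, U)),
      gm M hy s = a ∧ ∀ z (hz : z ∈ U), gm M hz s ∈ Submodule.span (X.presheaf.stalk z) (T z)) :
    SubFam M where
  S y := Submodule.span _ (T y)
  open' y a ha := by
    induction ha using Submodule.span_induction with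
    | mem a ha => exact h y a ha
    | zero => exact ⟨⊤, trivial, 0, gm_zero _, fun z hz => by rw [gm_zero hz]; exact zero_mem _⟩
    | add a b _ _ iha ihb =>
      obtain ⟨U, hU, s, rfl, hs⟩ := iha
      obtain ⟨V, hV, t, rfl, ht⟩ := ihb
      refine ⟨U ⊓ V, ⟨hU, hV⟩, res M inf_le_left s + res M inf_le_right t, ?_, fun z hz => ?_⟩
      · exact (gm_add _ _ _).trans (congrArg₂ (· + ·) (gm_res _ _ _) (gm_res _ _ _))
      · erw [gm_add, gm_res, gm_res]
        exact add_mem (hs z hz.1) (ht z hz.2)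
    | smul c a _ iha =>
      obtain ⟨U, hU, s, rfl, hs⟩ := iha
      obtain ⟨V, hV, r, rfl⟩ := exists_gr c
      refine ⟨U ⊓ V, ⟨hU, hV⟩, resR (inf_le_right : U ⊓ V ≤ V) r • res M (inf_le_left : U ⊓ V ≤ U) s, ?_, fun z hz => ?_⟩
      · erw [gm_smul, gm_res, gr_res]
      · erw [gm_smul, gm_res, gr_res]
        exact Submodule.smul_mem _ _ (hs z hz.1)

/-- The supremum of a collection of families. -/
def sSup' (c : Set (SubFam M)) : SubFam M :=
  ofGen (fun y => ⋃ T ∈ c, (T.S y : Set _)) fun y a ha => by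
    obtain ⟨T, hT, haT⟩ := Set.mem_iUnion₂.1 ha
    obtain ⟨U, hy, s, hs, hsT⟩ := T.open' y a haT
    exact ⟨U, hy, s, hs, fun z hz => Submodule.subset_span (Set.mem_iUnion₂.2 ⟨T, hT, hsT z hz⟩)⟩

lemma le_sSup' {c : Set (SubFam M)} {T : SubFam M} (h : T ∈ c) : T ≤ sSup' c :=
  fun _ _ ha => Submodule.subset_span (Set.mem_iUnion₂.2 ⟨T, h, ha⟩)

lemma mem_sSup'_chain {c : Set (SubFam M)} (hc : IsChain (· ≤ ·) c) (hne : c.Nonempty) {y : X}
    {a : M.presheaf.stalk y} (ha : a ∈ (sSup' c).S y) : ∃ T ∈ c, a ∈ T.S y := by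
  induction ha using Submodule.span_induction with
  | mem a ha =>
    obtain ⟨T, hT, haT⟩ := Set.mem_iUnion₂.1 ha
    exact ⟨T, hT, haT⟩
  | zero => exact hne.imp fun T hT => ⟨hT, zero_mem _⟩
  | add a b _ _ iha ihb =>
    obtain ⟨T, hT, haT⟩ := iha
    obtain ⟨T', hT', hbT'⟩ := ihb
    rcases hc.total hT hT' with h | h
    · exact ⟨T', hT', add_mem (h y haT) hbT'⟩
    · exact ⟨T, hT, add_mem haT (h y hbT')⟩
  | smul r a _ iha =>
    obtain ⟨T, hT, haT⟩ := iha
    exact ⟨T, hT, Submodule.smul_mem _ _ haT⟩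

/-- Zorn for families with a chain closed property. -/
theorem exists_maximal (P : SubFam M → Prop) (T₀ : SubFam M) (h₀ : P T₀)
    (hP : ∀ c : Set (SubFam M), IsChain (· ≤ ·) c → c.Nonempty → (∀ T ∈ c, P T) → P (sSup' c)) :
    ∃ T, T₀ ≤ T ∧ Maximal P T :=
  zorn_le_nonempty₀ {T | P T}
    (fun c hc hch T hT => ⟨sSup' c, hP c hch ⟨T, hT⟩ hc, fun _ h => le_sSup' h⟩) T₀ h₀

/-- The multiples of a section. -/
def spanSec {U : X.Opens} (s : Γ(M, U)) : SubFam M :=
  ofGen (fun y => {a | ∃ hy : y ∈ U, gm M hy s = a}) fun y a ha => by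
    obtain ⟨hy, rfl⟩ := ha
    exact ⟨U, hy, s, rfl, fun z hz => Submodule.subset_span ⟨hz, rfl⟩⟩

lemma gm_mem_spanSec {U : X.Opens} (s : Γ(M, U)) {y : X} (hy : y ∈ U) : gm M hy s ∈ (spanSec s).S y :=
  Submodule.subset_span ⟨hy, rfl⟩

/-- The sum of two families. -/
def sup' (T T' : SubFam M) : SubFam M := sSup' {T, T'}

lemma le_sup'_left (T T' : SubFam M) : T ≤ sup' T T' := le_sSup' (Set.mem_insert _ _)

lemma le_sup'_right (T T' : SubFam M) : T' ≤ sup' T T' :=
  le_sSup' (Set.mem_insert_of_mem _ (Set.mem_singleton _))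

lemma sup'_S (T T' : SubFam M) (y : X) : (sup' T T').S y = T.S y ⊔ T'.S y := by
  refine le_antisymm (Submodule.span_le.2 fun a ha => ?_) (sup_le (le_sup'_left T T' y) (le_sup'_right T T' y))
  obtain ⟨T₁, hT₁, ha'⟩ := Set.mem_iUnion₂.1 ha
  rcases hT₁ with rfl | rfl
  · exact Submodule.mem_sup_left ha'
  · exact Submodule.mem_sup_right ha'

/-- The image of a morphism. -/
noncomputable def range (φ : N ⟶ M) : SubFam M where
  S y := LinearMap.range (stalkMapₗ φ y)
  open' y a ha := by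
    obtain ⟨b, rfl⟩ := ha
    obtain ⟨U, hy, s, rfl⟩ := exists_gm N b
    exact ⟨U, hy, φ.app U s, (stalkMapₗ_gm φ hy s).symm, fun z hz => ⟨gm N hz s, stalkMapₗ_gm φ hz s⟩⟩

/-- The preimage under a morphism. -/
noncomputable def comap (φ : N ⟶ M) (T : SubFam M) : SubFam N where
  S y := (T.S y).comap (stalkMapₗ φ y)
  open' y a ha := by
    obtain ⟨U, hy, s, rfl⟩ := exists_gm N a
    obtain ⟨W, hWU, hyW, hW⟩ := T.exists_nhd hy (s := φ.app U s) ((stalkMapₗ_gm φ hy s).symm ▸ ha)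
    exact ⟨W, hyW, res N hWU s, gm_res _ _ _, fun z hz => by
      rw [Submodule.mem_comap, gm_res, stalkMapₗ_gm]
      exact hW z hz⟩

variable (T : SubFam M)

/-- The sections with germs in the family. -/
def sec (U : X.Opens) : Submodule Γ(X, U) Γ(M, U) where
  carrier := {s | ∀ z (hz : z ∈ U), gm M hz s ∈ T.S z}
  add_mem' ha hb z hz := by rw [gm_add]; exact add_mem (ha z hz) (hb z hz)
  zero_mem' z hz := by rw [gm_zero]; exact zero_mem _
  smul_mem' r s hs z hz := by rw [gm_smul]; exact Submodule.smul_mem _ _ (hs z hz)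

/-- The presheaf of groups of the sections with germs in the family. -/
def ab : X.Opensᵒᵖ ⥤ AddCommGrpCat.{u} where
  obj U := AddCommGrpCat.of (T.sec U.unop)
  map {U V} i := AddCommGrpCat.ofHom
    { toFun := fun s => ⟨res M i.unop.le s.1, fun z hz => by rw [gm_res]; exact s.2 z _⟩
      map_zero' := Subtype.ext (map_zero _)
      map_add' := fun a b => Subtype.ext (map_add _ _ _) }
  map_id U := AddCommGrpCat.hom_ext (AddMonoidHom.ext fun s => Subtype.ext (res_self _ _))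
  map_comp i j := AddCommGrpCat.hom_ext (AddMonoidHom.ext fun s => Subtype.ext (res_res _ _ _).symm)

instance (U : X.Opensᵒᵖ) : Module (X.ringCatSheaf.obj.obj U) (T.ab.obj U) :=
  inferInstanceAs (Module Γ(X, U.unop) (T.sec U.unop))

/-- The presheaf of modules of the family. -/
def pre : PresheafOfModules.{u} X.ringCatSheaf.obj :=
  PresheafOfModules.ofPresheaf (R := X.ringCatSheaf.obj) T.ab fun U V i r s =>
    Subtype.ext (res_smul i.unop.le r s.1)

lemma isSheaf_ab : TopCat.Presheaf.IsSheaf T.ab := by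
  rw [TopCat.Presheaf.isSheaf_iff_isSheafUniqueGluing]
  intro ι U sf hsf
  obtain ⟨s, hs, huniq⟩ := TopCat.Sheaf.existsUnique_gluing
    (⟨M.presheaf, M.isSheaf⟩ : TopCat.Sheaf AddCommGrpCat.{u} X) U (fun i => (sf i).1)
    fun i j => congrArg Subtype.val (hsf i j)
  refine ⟨⟨s, fun z hz => ?_⟩, fun i => Subtype.ext (hs i), fun t ht => Subtype.ext (huniq t.1 fun i => congrArg Subtype.val (ht i))⟩
  obtain ⟨i, hi⟩ := Opens.mem_iSup.1 hz
  have := (sf i).2 z hi
  rw [← show res M (le_iSup U i) s = (sf i).1 from hs i, gm_res] at this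
  exact this

/-- The submodule of a family. -/
def obj : X.Modules where
  val := T.pre
  isSheaf := T.isSheaf_ab

/-- The inclusion of the submodule. -/
def ι : T.obj ⟶ M where
  val := PresheafOfModules.homMk
    { app := fun U => AddCommGrpCat.ofHom (T.sec U.unop).subtype.toAddMonoidHom
      naturality := fun U V i => rfl }
    fun U r s => rfl

instance : Mono T.ι :=
  (Stalk.mono_iff_app_injective _).2 fun U => Subtype.val_injective

/-- The submodule of a family has its stalks. -/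
theorem range_ι : range T.ι = T := by
  refine le_antisymm (fun y a ha => ?_) fun y a ha => ?_
  · obtain ⟨b, rfl⟩ := ha
    obtain ⟨U, hy, s, rfl⟩ := exists_gm T.obj b
    rw [stalkMapₗ_gm]
    exact (show T.sec U from s).2 y hy
  · obtain ⟨U, hy, s, rfl, hs⟩ := T.open' y a ha
    exact ⟨gm T.obj hy (show Γ(T.obj, U) from (⟨s, hs⟩ : T.sec U)), stalkMapₗ_gm _ _ _⟩

theorem stalkMap_ι_injective (y : X) : Function.Injective (stalkMapₗ T.ι y) :=
  (mono_iff_stalkMapₗ_injective T.ι).1 inferInstance y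

end SubFam

/-- Spread out partial homomorphisms of the stalks. -/
structure PHom (M F : X.Modules) where
  /-- The graphs. -/
  G : ∀ y : X, Submodule (X.presheaf.stalk y) (M.presheaf.stalk y × F.presheaf.stalk y)
  single : ∀ (y : X) (b : F.presheaf.stalk y), (0, b) ∈ G y → b = 0
  open' : ∀ (y : X) (p : M.presheaf.stalk y × F.presheaf.stalk y), p ∈ G y →
    ∃ (U : X.Opens) (hy : y ∈ U) (s : Γ(M, U)) (t : Γ(F, U)), gm M hy s = p.1 ∧ gm F hy t = p.2 ∧
      ∀ z (hz : z ∈ U), (gm M hz s, gm F hz t) ∈ G z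

namespace PHom

instance : PartialOrder (PHom M F) :=
  PartialOrder.lift (fun T => T.G) fun T T' h => by cases T; cases T'; congr

variable (P : PHom M F)

lemma unique {y : X} {a : M.presheaf.stalk y} {b b' : F.presheaf.stalk y} (h : (a, b) ∈ P.G y)
    (h' : (a, b') ∈ P.G y) : b = b' :=
  sub_eq_zero.1 (P.single y _ (by simpa using sub_mem h h'))

/-- The domain. -/
def dom (y : X) : Submodule (X.presheaf.stalk y) (M.presheaf.stalk y) :=
  (P.G y).map (LinearMap.fst _ _ _)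

lemma mem_dom {y : X} {a : M.presheaf.stalk y} : a ∈ P.dom y ↔ ∃ b, (a, b) ∈ P.G y := by
  constructor
  · rintro ⟨⟨a', b⟩, h, rfl⟩
    exact ⟨b, h⟩
  · rintro ⟨b, h⟩
    exact ⟨(a, b), h, rfl⟩

/-- The domain as a family. -/
def domFam : SubFam M where
  S := P.dom
  open' y a ha := by
    obtain ⟨b, hb⟩ := P.mem_dom.1 ha
    obtain ⟨U, hy, s, t, hs, -, hst⟩ := P.open' y _ hb
    exact ⟨U, hy, s, hs, fun z hz => P.mem_dom.2 ⟨_, hst z hz⟩⟩

/-- Pairs persist nearby. -/
lemma exists_nhd {U V : X.Opens} {y : X} (hU : y ∈ U) (hV : y ∈ V) {s : Γ(M, U)} {t : Γ(F, V)}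
    (h : (gm M hU s, gm F hV t) ∈ P.G y) :
    ∃ (W : X.Opens) (hWU : W ≤ U) (hWV : W ≤ V), y ∈ W ∧
      ∀ z (hz : z ∈ W), (gm M (hWU hz) s, gm F (hWV hz) t) ∈ P.G z := by
  obtain ⟨O, hO, s', t', hs, ht, hst⟩ := P.open' y _ h
  obtain ⟨W₁, a₁, b₁, hy₁, e₁⟩ := exists_gm_eq (M := M) (hV := hU) hs
  obtain ⟨W₂, a₂, b₂, hy₂, e₂⟩ := exists_gm_eq (M := F) (hV := hV) ht
  refine ⟨W₁ ⊓ W₂, inf_le_left.trans b₁, inf_le_right.trans b₂, ⟨hy₁, hy₂⟩, fun z hz => ?_⟩
  rw [← e₁ z hz.1, ← e₂ z hz.2]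
  exact hst z (a₁ hz.1)

/-- The partial homomorphism of a morphism defined on a submodule. -/
noncomputable def ofMono {K : X.Modules} (ι : K ⟶ M) [Mono ι] (φ : K ⟶ F) : PHom M F where
  G y := LinearMap.range ((stalkMapₗ ι y).prod (stalkMapₗ φ y))
  single y b h := by
    obtain ⟨k, hk⟩ := h
    have h1 : stalkMapₗ ι y k = 0 := congrArg Prod.fst hk
    have h0 : k = 0 := (mono_iff_stalkMapₗ_injective ι).1 inferInstance y (h1.trans (map_zero _).symm)
    rw [← show stalkMapₗ φ y k = b from congrArg Prod.snd hk, h0, map_zero]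
  open' y p hp := by
    obtain ⟨k, rfl⟩ := hp
    obtain ⟨U, hy, s, rfl⟩ := exists_gm K k
    refine ⟨U, hy, ι.app U s, φ.app U s, (stalkMapₗ_gm _ _ _).symm, (stalkMapₗ_gm _ _ _).symm,
      fun z hz => ⟨gm K hz s, ?_⟩⟩
    exact Prod.ext (stalkMapₗ_gm ι hz s) (stalkMapₗ_gm φ hz s)

/-- Composition with a morphism. -/
noncomputable def comp {F' : X.Modules} (η : F ⟶ F') : PHom M F' where
  G y := (P.G y).map (LinearMap.id.prodMap (stalkMapₗ η y))
  single y b := by
    rintro ⟨⟨a, b'⟩, h, he⟩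
    obtain rfl : a = 0 := congrArg Prod.fst he
    rw [← show stalkMapₗ η y b' = b from congrArg Prod.snd he, P.single y b' h, map_zero]
  open' y p := by
    rintro ⟨⟨a, b⟩, h, rfl⟩
    obtain ⟨U, hy, s, t, hs, ht, hst⟩ := P.open' y _ h
    refine ⟨U, hy, s, η.app U t, hs, ?_, fun z hz => ⟨_, hst z hz, Prod.ext rfl (stalkMapₗ_gm η hz t)⟩⟩
    rw [← stalkMapₗ_gm, ht]
    rfl

lemma mem_comp {F' : X.Modules} (η : F ⟶ F') {y : X} {a : M.presheaf.stalk y} {b : F.presheaf.stalk y}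
    (h : (a, b) ∈ P.G y) : (a, stalkMapₗ η y b) ∈ (P.comp η).G y :=
  ⟨(a, b), h, rfl⟩

/-- Restriction along a morphism. -/
noncomputable def pullback (ι : N ⟶ M) : PHom N F where
  G y := (P.G y).comap ((stalkMapₗ ι y).prodMap LinearMap.id)
  single y b h := P.single y b (by simpa using h)
  open' y p hp := by
    obtain ⟨U, hy, s, hs⟩ := exists_gm N p.1
    obtain ⟨V, hV, t, ht⟩ := exists_gm F p.2
    have h' : (gm M hy (ι.app U s), gm F hV t) ∈ P.G y := by
      rw [← stalkMapₗ_gm, hs, ht]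
      exact hp
    obtain ⟨W, hWU, hWV, hyW, hW⟩ := P.exists_nhd hy hV h'
    refine ⟨W, hyW, res N hWU s, res F hWV t, by rw [gm_res, hs], by rw [gm_res, ht], fun z hz => ?_⟩
    rw [gm_res, gm_res]
    show (stalkMapₗ ι z (gm N (hWU hz) s), gm F (hWV hz) t) ∈ P.G z
    rw [stalkMapₗ_gm]
    exact hW z hz

lemma exists_app (htot : ∀ y, P.dom y = ⊤) {U : X.Opens} (s : Γ(M, U)) :
    ∃! t : Γ(F, U), ∀ z (hz : z ∈ U), (gm M hz s, gm F hz t) ∈ P.G z := by
  classical
  have hloc : ∀ z : U, ∃ (W : X.Opens) (hWU : W ≤ U) (t : Γ(F, W)), z.1 ∈ W ∧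
      ∀ w (hw : w ∈ W), (gm M (hWU hw) s, gm F hw t) ∈ P.G w := by
    rintro ⟨z, hz⟩
    obtain ⟨b, hb⟩ := P.mem_dom.1 (show gm M hz s ∈ P.dom z by rw [htot]; trivial)
    obtain ⟨V, hV, t, rfl⟩ := exists_gm F b
    obtain ⟨W, hWU, hWV, hzW, hW⟩ := P.exists_nhd hz hV hb
    exact ⟨W, hWU, res F hWV t, hzW, fun w hw => by rw [gm_res]; exact hW w hw⟩
  choose W hWU t hzW hW using hloc
  obtain ⟨g, hg, -⟩ := TopCat.Sheaf.existsUnique_gluing'
    (⟨F.presheaf, F.isSheaf⟩ : TopCat.Sheaf AddCommGrpCat.{u} X) W U (fun z => homOfLE (hWU z))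
    (fun z hz => Opens.mem_iSup.2 ⟨⟨z, hz⟩, hzW ⟨z, hz⟩⟩) t fun i j => by
      refine section_eq_of_gm (M := F) _ _ fun w hw => ?_
      show gm F hw (res F inf_le_left (t i)) = gm F hw (res F inf_le_right (t j))
      rw [gm_res, gm_res]
      exact P.unique (hW i w hw.1) (hW j w hw.2)
  refine ⟨g, fun z hz => ?_, fun t' ht' => section_eq_of_gm _ _ fun z hz => ?_⟩
  · have h1 : gm F (hzW ⟨z, hz⟩) (t ⟨z, hz⟩) = gm F hz g := by
      rw [← hg ⟨z, hz⟩]
      exact gm_res (hWU ⟨z, hz⟩) (hzW ⟨z, hz⟩) g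
    rw [← h1]
    exact hW ⟨z, hz⟩ z (hzW ⟨z, hz⟩)
  · have h1 : gm F (hzW ⟨z, hz⟩) (t ⟨z, hz⟩) = gm F hz g := by
      rw [← hg ⟨z, hz⟩]
      exact gm_res (hWU ⟨z, hz⟩) (hzW ⟨z, hz⟩) g
    rw [← h1]
    exact P.unique (ht' z hz) (hW ⟨z, hz⟩ z (hzW ⟨z, hz⟩))

/-- The morphism of a total partial homomorphism. -/
noncomputable def toHom (htot : ∀ y, P.dom y = ⊤) : M ⟶ F where
  val := PresheafOfModules.homMk
    { app := fun U => AddCommGrpCat.ofHom
        { toFun := fun (s : Γ(M, U.unop)) => (P.exists_app htot s).choose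
          map_zero' := ((P.exists_app htot (0 : Γ(M, U.unop))).choose_spec.2 0 fun z hz => by
            rw [gm_zero, gm_zero]; exact zero_mem _).symm
          map_add' := fun a b => ((P.exists_app htot (a + b)).choose_spec.2 _ fun z hz => by
            erw [gm_add, gm_add]
            exact add_mem ((P.exists_app htot a).choose_spec.1 z hz)
              ((P.exists_app htot b).choose_spec.1 z hz)).symm }
      naturality := fun U V i => by
        ext (s : Γ(M, U.unop))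
        refine ((P.exists_app htot (res M i.unop.le s)).choose_spec.2
          (res F i.unop.le (P.exists_app htot s).choose) fun z hz => ?_).symm
        rw [gm_res, gm_res]
        exact (P.exists_app htot s).choose_spec.1 z _ }
    fun U r s => ((P.exists_app htot (U := U.unop) ((show Γ(X, U.unop) from r) • (show Γ(M, U.unop) from s))).choose_spec.2
      ((show Γ(X, U.unop) from r) • (P.exists_app htot (show Γ(M, U.unop) from s)).choose) fun z hz => by
        rw [gm_smul, gm_smul]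
        exact Submodule.smul_mem _ (gr hz (show Γ(X, U.unop) from r))
          ((P.exists_app htot (show Γ(M, U.unop) from s)).choose_spec.1 z hz)).symm

lemma toHom_mem (htot : ∀ y, P.dom y = ⊤) (y : X) (a : M.presheaf.stalk y) :
    (a, stalkMapₗ (P.toHom htot) y a) ∈ P.G y := by
  obtain ⟨U, hy, s, rfl⟩ := exists_gm M a
  rw [stalkMapₗ_gm]
  exact (P.exists_app htot s).choose_spec.1 y hy

lemma toHom_eq (htot : ∀ y, P.dom y = ⊤) {y : X} {a : M.presheaf.stalk y} {b : F.presheaf.stalk y}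
    (h : (a, b) ∈ P.G y) : stalkMapₗ (P.toHom htot) y a = b :=
  P.unique (P.toHom_mem htot y a) h

/-- A partial homomorphism to an injective module extends. -/
theorem exists_extend [Injective F] :
    ∃ h : M ⟶ F, ∀ y a b, (a, b) ∈ P.G y → stalkMapₗ h y a = b := by
  let K := P.domFam
  have htot : ∀ y, (P.pullback K.ι).dom y = ⊤ := fun y => eq_top_iff.2 fun a _ => by
    have h1 : stalkMapₗ K.ι y a ∈ P.dom y :=
      (show SubFam.range K.ι ≤ K from K.range_ι.le) y ⟨a, rfl⟩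
    obtain ⟨b, hb⟩ := P.mem_dom.1 h1
    exact (P.pullback K.ι).mem_dom.2 ⟨b, hb⟩
  refine ⟨Injective.factorThru ((P.pullback K.ι).toHom htot) K.ι, fun y a b h => ?_⟩
  obtain ⟨k, rfl⟩ : a ∈ (SubFam.range K.ι).S y := by
    rw [K.range_ι]
    exact P.mem_dom.2 ⟨b, h⟩
  have e := congrArg (fun φ => stalkMapₗ φ y k)
    (Injective.comp_factorThru ((P.pullback K.ι).toHom htot) K.ι)
  simp only [stalkMapₗ_comp, LinearMap.comp_apply] at e
  rw [e]
  exact (P.pullback K.ι).toHom_eq htot h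

end PHom

end

end Groth.Agent.Lib.InjMod
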