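import Groth.Agent.Lib.InjMod.Criterion
import Mathlib.RingTheory.Ideal.MinimalPrime.Noetherian
import Mathlib.AlgebraicGeometry.Noetherian

/-!
# Spread out ideals on affine opens of locally Noetherian schemes

`exists_gens`: a submodule of `O_X` has finitely many generating sections on an affine open of a
locally Noetherian scheme.
-/

set_option autoImplicit false
universe u

open CategoryTheory Limits AlgebraicGeometry Opposite TopologicalSpace

namespace Groth.Agent.Lib.InjMod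

open Groth.Agent.Lib.Modules StalkModule Groth.Agent.Lib.QCoh.Localizing

noncomputable section

variable {X : Scheme.{u}} {V : X.Opens} (hV : IsAffineOpen V)

/-- The prime of a point. -/
abbrev pr {y : X} (hy : y ∈ V) : Ideal Γ(X, V) := (hV.primeIdealOf ⟨y, hy⟩).asIdeal

lemma isUnit_gr_iff {y : X} (hy : y ∈ V) (a : Γ(X, V)) : IsUnit (gr hy a) ↔ a ∉ pr hV hy := by
  letI := TopCat.Presheaf.algebra_section_stalk X.presheaf (⟨y, hy⟩ : V)
  haveI := hV.isLocalization_stalk ⟨y, hy⟩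
  exact IsLocalization.AtPrime.isUnit_to_map_iff (X.presheaf.stalk y) (pr hV hy) a

lemma mem_basicOpen_iff {y : X} (hy : y ∈ V) (a : Γ(X, V)) : y ∈ X.basicOpen a ↔ a ∉ pr hV hy :=
  (X.mem_basicOpen a y hy).trans (isUnit_gr_iff hV hy a)

include hV in
/-- Every germ is a fraction. -/
lemma exists_fraction {y : X} (hy : y ∈ V) (r : X.presheaf.stalk y) :
    ∃ c s : Γ(X, V), IsUnit (gr hy s) ∧ r * gr hy s = gr hy c := by
  letI := TopCat.Presheaf.algebra_section_stalk X.presheaf (⟨y, hy⟩ : V)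
  haveI := hV.isLocalization_stalk ⟨y, hy⟩
  obtain ⟨⟨c, s⟩, h⟩ := IsLocalization.surj (pr hV hy).primeCompl r
  exact ⟨c, s.1, IsLocalization.map_units (X.presheaf.stalk y) s, h⟩

include hV in
/-- Germs at a point vanish after multiplication by a function invertible there. -/
lemma exists_mul_eq_zero {y : X} (hy : y ∈ V) {c : Γ(X, V)} (h : gr hy c = 0) :
    ∃ s : Γ(X, V), IsUnit (gr hy s) ∧ s * c = 0 := by
  letI := TopCat.Presheaf.algebra_section_stalk X.presheaf (⟨y, hy⟩ : V)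
  haveI := hV.isLocalization_stalk ⟨y, hy⟩
  obtain ⟨s, hs⟩ := (IsLocalization.map_eq_zero_iff (pr hV hy).primeCompl (X.presheaf.stalk y) c).1 h
  exact ⟨s.1, IsLocalization.map_units (X.presheaf.stalk y) s, hs⟩

/-- A finite family of functions and opens. -/
lemma exists_basicOpen_le_inter (hV : IsAffineOpen V) {x : X} (hx : x ∈ V) {ι : Type*} (S : Finset ι)
    (W : ι → X.Opens) (hW : ∀ i ∈ S, x ∈ W i) :
    ∃ g : Γ(X, V), x ∈ X.basicOpen g ∧ ∀ i ∈ S, X.basicOpen g ≤ W i := by
  classical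
  induction S using Finset.induction_on with
  | empty => exact ⟨1, by rw [X.mem_basicOpen _ x hx, map_one]; exact isUnit_one, fun i hi => absurd hi (Finset.notMem_empty i)⟩
  | insert j S hj ih =>
    obtain ⟨g, hg, hle⟩ := ih fun i hi => hW i (Finset.mem_insert_of_mem hi)
    obtain ⟨f, hf, hxf⟩ := hV.exists_basicOpen_le (V := W j) ⟨x, hW j (Finset.mem_insert_self j S)⟩ hx
    refine ⟨f * g, by rw [Scheme.basicOpen_mul]; exact ⟨hxf, hg⟩, fun i hi => ?_⟩
    rw [Scheme.basicOpen_mul]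
    rcases Finset.mem_insert.1 hi with rfl | hi
    · exact inf_le_left.trans hf
    · exact inf_le_right.trans (hle i hi)

variable [IsLocallyNoetherian X]

include hV in
lemma isNoetherianRing_sections : IsNoetherianRing Γ(X, V) :=
  IsLocallyNoetherian.component_noetherian ⟨V, hV⟩

/-- An ideal has a minimal prime `p` and a function outside `p` such that the primes avoiding it and
containing the ideal contain `p`. -/
lemma exists_minimal {A : Type*} [CommRing A] [IsNoetherianRing A] {c : Ideal A} (hc : c ≠ ⊤) :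
    ∃ (p : Ideal A) (g : A), p.IsPrime ∧ c ≤ p ∧ g ∉ p ∧
      ∀ q : Ideal A, q.IsPrime → c ≤ q → g ∉ q → p ≤ q := by
  classical
  have hfin : c.minimalPrimes.Finite := Ideal.finite_minimalPrimes_of_isNoetherianRing A c
  obtain ⟨p, hp⟩ : c.minimalPrimes.Nonempty := Set.nonempty_coe_sort.1 (Ideal.nonempty_minimalPrimes hc)
  haveI := hp.1.1
  have hex : ∀ q ∈ hfin.toFinset.erase p, ∃ a ∈ q, a ∉ p := by
    intro q hq
    obtain ⟨hne, hq⟩ := Finset.mem_erase.1 hq
    rw [hfin.mem_toFinset] at hq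
    by_contra h
    exact hne (le_antisymm (fun a ha => by_contra fun ha' => h ⟨a, ha, ha'⟩)
      (hp.2 hq.1 fun a ha => by_contra fun ha' => h ⟨a, ha, ha'⟩))
  choose a ha hap using hex
  refine ⟨p, ∏ q : {q // q ∈ hfin.toFinset.erase p}, a q.1 q.2, hp.1.1, hp.1.2, ?_, ?_⟩
  · intro hmem
    obtain ⟨q, -, hq⟩ := Ideal.IsPrime.prod_mem_iff.1 hmem
    exact hap _ _ hq
  · intro q hqp hcq hgq
    obtain ⟨q₀, hq₀, hle⟩ := Ideal.exists_minimalPrimes_le hcq
    by_cases h : q₀ = p
    · exact h ▸ hle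
    · exfalso
      refine hgq (hle ?_)
      have hmem : q₀ ∈ hfin.toFinset.erase p := Finset.mem_erase.2 ⟨h, hfin.mem_toFinset.2 hq₀⟩
      exact Ideal.mem_of_dvd _ (Finset.dvd_prod_of_mem
        (fun q : {q // q ∈ hfin.toFinset.erase p} => a q.1 q.2) (Finset.mem_univ ⟨q₀, hmem⟩)) (ha q₀ hmem)

/-- The point and function of the Noetherian induction. -/
lemma exists_generic {c : Ideal Γ(X, V)} (hc : c ≠ ⊤) :
    ∃ (x : X) (hx : x ∈ V) (g : Γ(X, V)), c ≤ pr hV hx ∧ g ∉ pr hV hx ∧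
      ∀ y (hy : y ∈ V), c ≤ pr hV hy → g ∉ pr hV hy → x ⤳ y := by
  haveI := isNoetherianRing_sections hV
  obtain ⟨p, g, hp, hcp, hgp, hall⟩ := exists_minimal hc
  obtain ⟨x, hx, rfl⟩ := AssPt.Basic.exists_point_of_prime hV p
  exact ⟨x, hx, g, hcp, hgp, fun y hy h1 h2 =>
    (AssPt.Basic.specializes_iff_primeIdealOf hV hy hx).2 (hall _ inferInstance h1 h2)⟩

include hV in
/-- A submodule of the structure sheaf has finitely many generating sections on an affine open. -/
theorem exists_gens (T : SubFam (Coh.structureModule X)) :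
    ∃ L : Finset (Γ(X, V) × Γ(X, V)),
      (∀ l ∈ L, ∀ y (hy : y ∈ V), y ∈ X.basicOpen l.1 → gr hy l.2 • oneAt y ∈ T.S y) ∧
      ∀ y (hy : y ∈ V) (r : X.presheaf.stalk y), r • oneAt y ∈ T.S y →
        r ∈ Submodule.span (X.presheaf.stalk y) {w | ∃ l ∈ L, y ∈ X.basicOpen l.1 ∧ gr hy l.2 = w} := by
  classical
  haveI := isNoetherianRing_sections hV
  let P : Ideal Γ(X, V) → Prop := fun c => ∃ L : Finset (Γ(X, V) × Γ(X, V)),
      (∀ l ∈ L, ∀ y (hy : y ∈ V), y ∈ X.basicOpen l.1 → gr hy l.2 • oneAt y ∈ T.S y) ∧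
      ∀ y (hy : y ∈ V), ¬ c ≤ pr hV hy → ∀ (r : X.presheaf.stalk y), r • oneAt y ∈ T.S y →
        r ∈ Submodule.span (X.presheaf.stalk y) {w | ∃ l ∈ L, y ∈ X.basicOpen l.1 ∧ gr hy l.2 = w}
  obtain ⟨c, ⟨L, hL, hcov⟩, hmax⟩ := set_has_maximal_iff_noetherian.2 (inferInstance : IsNoetherian Γ(X, V) Γ(X, V))
    {c | P c} ⟨⊥, ∅, fun l hl => absurd hl (Finset.notMem_empty l), fun y hy h => absurd bot_le h⟩
  by_cases hc : c = ⊤
  · subst hc
    exact ⟨L, hL, fun y hy => hcov y hy fun h => (hV.primeIdealOf ⟨y, hy⟩).isPrime.ne_top (top_le_iff.1 h)⟩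
  exfalso
  obtain ⟨x, hx, g, hcx, hgx, hspec⟩ := exists_generic hV hc
  let b : Ideal Γ(X, V) :=
    { carrier := {a | gr hx a • oneAt x ∈ T.S x}
      add_mem' := fun {a a'} ha ha' => by
        show gr hx (a + a') • oneAt x ∈ T.S x
        rw [gr, map_add, add_smul]
        exact add_mem ha ha'
      zero_mem' := by
        show gr hx 0 • oneAt x ∈ T.S x
        rw [gr, map_zero, zero_smul]
        exact zero_mem _
      smul_mem' := fun e a ha => by
        show gr hx (e * a) • oneAt x ∈ T.S x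
        rw [gr, map_mul, mul_smul]
        exact Submodule.smul_mem _ _ ha }
  obtain ⟨S, hS⟩ := (IsNoetherian.noetherian b : b.FG)
  have hnhd : ∀ a ∈ S, ∃ W : X.Opens, ∃ hW : W ≤ V, x ∈ W ∧
      ∀ z (hz : z ∈ W), gr (hW hz) a • oneAt z ∈ T.S z := by
    intro a ha
    have h : gm (Coh.structureModule X) hx a ∈ T.S x := by
      rw [gm_fun]
      have hab : a ∈ b := hS ▸ Submodule.subset_span ha
      exact hab
    obtain ⟨W, hW, hxW, hT⟩ := T.exists_nhd hx h
    exact ⟨W, hW, hxW, fun z hz => by have := hT z hz; rwa [gm_fun] at this⟩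
  choose W hWV hxW hW using hnhd
  obtain ⟨g₀, hxg₀, hle₀⟩ := exists_basicOpen_le_inter hV hx S.attach (fun a => W a.1 a.2)
    fun a _ => hxW a.1 a.2
  let g' := g * g₀
  have hg' : g' ∉ pr hV hx := fun h => (Ideal.IsPrime.mem_or_mem inferInstance h).elim hgx
    ((mem_basicOpen_iff hV hx g₀).1 hxg₀)
  refine hmax (c ⊔ Ideal.span {g'}) ⟨L ∪ S.image (fun a => (g', a)), ?_, ?_⟩
    (lt_of_le_not_ge le_sup_left fun h => hg' (hcx (h (Ideal.mem_sup_right (Ideal.mem_span_singleton_self g')))))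
  · intro l hl y hy hyl
    rcases Finset.mem_union.1 hl with hl | hl
    · exact hL l hl y hy hyl
    · obtain ⟨a, ha, rfl⟩ := Finset.mem_image.1 hl
      have hy₀ : y ∈ X.basicOpen g₀ := (mem_basicOpen_iff hV hy g₀).2 fun h =>
        (mem_basicOpen_iff hV hy g').1 hyl (Ideal.mul_mem_left _ _ h)
      exact hW a ha y (hle₀ ⟨a, ha⟩ (Finset.mem_attach _ _) hy₀)
  · intro y hy hne r hr
    by_cases hcy : c ≤ pr hV hy
    swap
    · refine Submodule.span_mono ?_ (hcov y hy hcy r hr)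
      rintro w ⟨l, hl, h⟩
      exact ⟨l, Finset.mem_union_left _ hl, h⟩
    have hg'y : g' ∉ pr hV hy := fun h =>
      hne (sup_le hcy ((Ideal.span_singleton_le_iff_mem _).2 h))
    have hxy : x ⤳ y := hspec y hy hcy fun h => hg'y (Ideal.mul_mem_right _ _ h)
    obtain ⟨e, s, hs, hes⟩ := exists_fraction hV hy r
    have he : gm (Coh.structureModule X) hy e ∈ T.S y := by
      rw [gm_fun, ← hes, mul_comm, mul_smul]
      exact Submodule.smul_mem _ _ hr
    obtain ⟨W', hW'V, hyW', hW'⟩ := T.exists_nhd hy he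
    have hxe : e ∈ b := by
      have := hW' x (hxy.mem_open W'.isOpen hyW')
      rwa [gm_fun] at this
    have hgre : gr hy e ∈ Submodule.span (X.presheaf.stalk y)
        {w | ∃ l ∈ L ∪ S.image (fun a => (g', a)), y ∈ X.basicOpen l.1 ∧ gr hy l.2 = w} := by
      rw [← hS] at hxe
      clear hes he hW'
      induction hxe using Submodule.span_induction with
      | mem a ha =>
        exact Submodule.subset_span ⟨(g', a), Finset.mem_union_right _ (Finset.mem_image.2 ⟨a, ha, rfl⟩),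
          (mem_basicOpen_iff hV hy g').2 hg'y, rfl⟩
      | zero => rw [gr, map_zero]; exact zero_mem _
      | add a a' _ _ h h' => rw [gr, map_add]; exact add_mem h h'
      | smul e a _ h => rw [gr, smul_eq_mul, map_mul]; exact Submodule.smul_mem _ _ h
    rw [show r = (↑hs.unit⁻¹ : X.presheaf.stalk y) * gr hy e by
      rw [← hes, mul_left_comm, IsUnit.val_inv_mul, mul_one]]
    exact Submodule.smul_mem _ _ hgre

end

end Groth.Agent.Lib.InjMod
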