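import Groth.Agent.Lib.InjMod.Affine
import Groth.Agent.Lib.Devissage.Sky

/-!
# Coproducts of injective modules on locally Noetherian schemes
-/

set_option autoImplicit false
universe u

open CategoryTheory Limits AlgebraicGeometry Opposite TopologicalSpace

namespace Groth.Agent.Lib.InjMod

open Groth.Agent.Lib.Modules StalkModule Groth.Agent.Lib.QCoh.Localizing Groth.Agent.Lib.Devissage

noncomputable section

variable {X : Scheme.{u}} {F : X.Modules}

/-- The functions on which a partial homomorphism is multiplication by an element. -/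
def agree (P : PHom (Coh.structureModule X) F) (y : X) (b : F.presheaf.stalk y) : Ideal (X.presheaf.stalk y) where
  carrier := {r | (r • oneAt y, r • b) ∈ P.G y}
  add_mem' {r r'} h h' := by
    show ((r + r') • oneAt y, (r + r') • b) ∈ P.G y
    rw [add_smul, add_smul]
    exact (P.G y).add_mem h h'
  zero_mem' := by
    show ((0 : X.presheaf.stalk y) • oneAt y, (0 : X.presheaf.stalk y) • b) ∈ P.G y
    rw [zero_smul, zero_smul]
    exact zero_mem _
  smul_mem' c r h := by
    show ((c * r) • oneAt y, (c * r) • b) ∈ P.G y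
    rw [mul_smul, mul_smul]
    exact Submodule.smul_mem _ c h

variable {ι : Type u} (I : ι → X.Modules)

/-- The projection of a coproduct to a summand. -/
def proj (j : ι) : (∐ I) ⟶ I j := by
  classical
  exact Sigma.desc fun i => if h : i = j then eqToHom (congrArg I h) else 0

lemma ι_proj_self (j : ι) : Sigma.ι I j ≫ proj I j = 𝟙 (I j) := by
  classical
  simp [proj]

lemma ι_proj_ne {i j : ι} (h : i ≠ j) : Sigma.ι I i ≫ proj I j = 0 := by
  classical
  simp [proj, h]

/-- The elements coming from a finite set of summands. -/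
def Finitary (y : X) (b : (∐ I).presheaf.stalk y) (J : Finset ι) : Prop :=
  ∑ j ∈ J, stalkMapₗ (Sigma.ι I j) y (stalkMapₗ (proj I j) y b) = b

lemma finitary_mono {y : X} {b : (∐ I).presheaf.stalk y} {J J' : Finset ι} (hJ : J ⊆ J') (h : Finitary I y b J) :
    Finitary I y b J' := by
  classical
  unfold Finitary at h ⊢
  refine (Finset.sum_subset hJ fun j _ hj => ?_).symm.trans h
  rw [← h, map_sum, Finset.sum_eq_zero, map_zero]
  intro i hi
  rw [← LinearMap.comp_apply, ← stalkMapₗ_comp, ι_proj_ne I (fun e : i = j => hj (e ▸ hi)), stalkMapₗ_zero,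
    LinearMap.zero_apply]

lemma exists_finitary (y : X) (b : (∐ I).presheaf.stalk y) : ∃ J, Finitary I y b J := by
  classical
  let N : Submodule (X.presheaf.stalk y) ((∐ I).presheaf.stalk y) :=
    { carrier := {b | ∃ J, Finitary I y b J}
      zero_mem' := ⟨∅, Finset.sum_empty⟩
      add_mem' := by
        rintro a b ⟨J, hJ⟩ ⟨J', hJ'⟩
        refine ⟨J ∪ J', ?_⟩
        have h1 := finitary_mono I Finset.subset_union_left hJ (J' := J ∪ J')
        have h2 := finitary_mono I Finset.subset_union_right hJ' (J' := J ∪ J')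
        unfold Finitary at h1 h2 ⊢
        simp only [map_add, Finset.sum_add_distrib, h1, h2]
      smul_mem' := by
        rintro c a ⟨J, hJ⟩
        refine ⟨J, ?_⟩
        unfold Finitary at hJ ⊢
        simp only [map_smul, ← Finset.smul_sum, hJ] }
  have hN : N = ⊤ := by
    let q := Sky.toSky (M := ∐ I) N.mkQ
    have hq : q = 0 := Sigma.hom_ext _ _ fun j => by
      rw [comp_zero]
      ext W s
      funext h
      show N.mkQ (gm (∐ I) h.down ((Sigma.ι I j).app W s)) = 0
      rw [← stalkMapₗ_gm]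
      refine (Submodule.Quotient.mk_eq_zero N).2 ⟨{j}, ?_⟩
      unfold Finitary
      rw [Finset.sum_singleton, ← LinearMap.comp_apply (stalkMapₗ (proj I j) y), ← stalkMapₗ_comp, ι_proj_self,
        stalkMapₗ_id, LinearMap.id_apply]
    refine eq_top_iff.2 fun b _ => (Submodule.Quotient.mk_eq_zero N).1 ?_
    have := Sky.stalkMapₗ_toSky (M := ∐ I) N.mkQ b
    rw [show Sky.toSky (M := ∐ I) N.mkQ = 0 from hq, stalkMapₗ_zero, LinearMap.zero_apply] at this
    exact (LinearEquiv.map_eq_zero_iff _).1 this.symm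
  exact hN.ge trivial

variable [IsLocallyNoetherian X]

/-- Coproducts of injective modules on a locally Noetherian scheme are injective. -/
theorem injective_sigma (hI : ∀ j, Injective (I j)) : Injective (∐ I) := by
  classical
  refine injective_of_extend fun P x => ?_
  obtain ⟨V, hV, hxV, -⟩ := exists_isAffineOpen_mem_and_subset (U := ⊤) (x := x) trivial
  obtain ⟨L, hL, hgen⟩ := exists_gens hV P.domFam
  -- the values on the generators come from finitely many summands
  have hfin : ∀ l ∈ L, ∃ J : Finset ι, ∀ y (hy : y ∈ V), y ∈ X.basicOpen l.1 →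
      ∃ b, (gr hy l.2 • oneAt y, b) ∈ P.G y ∧ Finitary I y b J := by
    intro l hl
    have hloc : ∀ y : X.basicOpen l.1, ∃ (W : X.Opens) (J : Finset ι), y.1 ∈ W ∧ W ≤ V ∧ ∀ z (hz : z ∈ V), z ∈ W →
        ∃ b, (gr hz l.2 • oneAt z, b) ∈ P.G z ∧ Finitary I z b J := by
      rintro ⟨y, hyl⟩
      have hy : y ∈ V := X.basicOpen_le _ hyl
      obtain ⟨b, hb⟩ := P.mem_dom.1 (hL l hl y hy hyl)
      obtain ⟨U, hyU, τ, rfl⟩ := exists_gm _ b
      obtain ⟨J, hJ⟩ := exists_finitary I y (gm _ hyU τ)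
      rw [← gm_fun] at hb
      obtain ⟨W, hWV, hWU, hyW, hW⟩ := P.exists_nhd hy hyU hb
      let σ := ∑ j ∈ J, (Sigma.ι I j).app U ((proj I j).app U τ)
      have hσ : ∀ z (hz : z ∈ U), gm _ hz σ =
          ∑ j ∈ J, stalkMapₗ (Sigma.ι I j) z (stalkMapₗ (proj I j) z (gm _ hz τ)) := fun z hz => by
        refine (map_sum ((∐ I).presheaf.germ U z hz).hom _ _).trans (Finset.sum_congr rfl fun j _ => ?_)
        rw [stalkMapₗ_gm, stalkMapₗ_gm]
      obtain ⟨W', hW'U, hW'U', hyW', he⟩ := exists_gm_eq ((hσ y hyU).trans hJ)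
      refine ⟨W ⊓ W', J, ⟨hyW, hyW'⟩, inf_le_left.trans hWV, fun z hz hzW => ⟨gm _ (hWU hzW.1) τ, ?_, ?_⟩⟩
      · rw [← gm_fun]
        exact hW z hzW.1
      · exact ((hσ z _).symm.trans (he z hzW.2))
    choose W J hmem hWV hW using hloc
    obtain ⟨S, hS⟩ := (hV.basicOpen l.1).isCompact.elim_finite_subcover (fun y => (W y : Set X))
      (fun y => (W y).2) fun y hy => Set.mem_iUnion.2 ⟨⟨y, hy⟩, hmem ⟨y, hy⟩⟩
    refine ⟨S.biUnion J, fun y hy hyl => ?_⟩
    obtain ⟨i, hiS, hi⟩ := Set.mem_iUnion₂.1 (hS hyl)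
    obtain ⟨b, hb, hbJ⟩ := hW i y hy hi
    exact ⟨b, hb, finitary_mono I (Finset.subset_biUnion_of_mem J hiS) hbJ⟩
  choose J hJ using hfin
  let J₀ := L.attach.biUnion fun l => J l.1 l.2
  choose t ht using fun j => haveI := hI j; (P.comp (proj I j)).exists_section V
  let t₀ := ∑ j ∈ J₀, (Sigma.ι I j).app V (t j)
  refine ⟨V, hxV, t₀, fun y hy r b hb => ?_⟩
  have ht₀ : gm _ hy t₀ = ∑ j ∈ J₀, stalkMapₗ (Sigma.ι I j) y (gm _ hy (t j)) := by
    refine (map_sum ((∐ I).presheaf.germ V y hy).hom _ _).trans (Finset.sum_congr rfl fun j _ => ?_)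
    rw [stalkMapₗ_gm]
  suffices hr : r ∈ agree P y (gm _ hy t₀) from P.unique hb hr
  refine Submodule.span_le.2 ?_ (hgen y hy r (P.mem_dom.2 ⟨b, hb⟩))
  rintro _ ⟨l, hl, hyl, rfl⟩
  obtain ⟨c, hc, hcJ⟩ := hJ l hl y hy hyl
  show (_, gr hy l.2 • gm _ hy t₀) ∈ P.G y
  have hcJ₀ : Finitary I y c J₀ :=
    finitary_mono I (Finset.subset_biUnion_of_mem (fun l : {l // l ∈ L} => J l.1 l.2) (Finset.mem_attach L ⟨l, hl⟩)) hcJ
  have e : gr hy l.2 • gm _ hy t₀ = c := by
    rw [← hcJ₀, ht₀, Finset.smul_sum]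
    refine Finset.sum_congr rfl fun j _ => ?_
    rw [← map_smul]
    exact congrArg _ (ht j y hy _ _ (P.mem_comp (proj I j) hc)).symm
  rw [e]
  exact hc

end

end Groth.Agent.Lib.InjMod
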