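import Groth.Agent.Lib.InjMod.SubFam
import Groth.Agent.Lib.AssPt.Basic
import Groth.Agent.Lib.Modules.Local

/-!
# Baer's criterion for `O_X`-modules

`injective_of_extend`: a module is injective as soon as every partial homomorphism on `O_X` extends
near every point. Conversely partial homomorphisms to injective modules extend (`exists_section`).
-/

set_option autoImplicit false
universe u

open CategoryTheory Limits AlgebraicGeometry Opposite TopologicalSpace

namespace Groth.Agent.Lib.InjMod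

open Groth.Agent.Lib.Modules StalkModule Groth.Agent.Lib.QCoh.Localizing

noncomputable section

variable {X : Scheme.{u}} {M N F : X.Modules}

/-- The germ of one. -/
def oneAt (y : X) : (Coh.structureModule X).presheaf.stalk y :=
  gm (Coh.structureModule X) (U := ⊤) (y := y) trivial (1 : Γ(X, ⊤))

lemma gm_fun {U : X.Opens} {y : X} (hy : y ∈ U) (r : Γ(X, U)) :
    gm (Coh.structureModule X) hy r = gr hy r • oneAt y := by
  refine (AssPt.Basic.unitStalk_germ_smul_one y hy r).symm.trans (congrArg (gr hy r • ·) ?_)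
  refine Eq.trans (congrArg _ ?_) (TopCat.Presheaf.germ_res_apply
    (Coh.structureModule X).presheaf (homOfLE (le_top : U ≤ ⊤)) y hy (1 : Γ(X, ⊤)))
  exact (map_one (X.presheaf.map (homOfLE (le_top : U ≤ ⊤)).op).hom).symm

lemma gm_one {U : X.Opens} {y : X} (hy : y ∈ U) :
    gm (Coh.structureModule X) hy (1 : Γ(X, U)) = oneAt y := by
  rw [gm_fun, gr, map_one, one_smul]

lemma exists_smul_oneAt {y : X} (a : (Coh.structureModule X).presheaf.stalk y) :
    ∃ r : X.presheaf.stalk y, a = r • oneAt y := by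
  obtain ⟨U, hy, s, rfl⟩ := exists_gm _ a
  exact ⟨gr hy s, gm_fun hy s⟩

lemma smul_oneAt_injective {y : X} {r r' : X.presheaf.stalk y} (h : r • oneAt y = r' • oneAt y) :
    r = r' := by
  have h1 : ∀ r : X.presheaf.stalk y, AssPt.Basic.unitStalkEquiv y r = r • oneAt y := fun r => rfl
  exact (AssPt.Basic.unitStalkEquiv y).injective ((h1 r).trans (h.trans (h1 r').symm))

namespace PHom

/-- The supremum of a chain. -/
def chainSup (c : Set (PHom M F)) (hc : IsChain (· ≤ ·) c) (hne : c.Nonempty) : PHom M F where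
  G y := ⨆ P : c, P.1.G y
  single y b h := by
    haveI := hne.to_subtype
    have hd : Directed (· ≤ ·) fun P : c => P.1.G y := fun P Q => by
      rcases hc.total P.2 Q.2 with h | h
      · exact ⟨Q, h y, le_rfl⟩
      · exact ⟨P, le_rfl, h y⟩
    obtain ⟨P, hP⟩ := (Submodule.mem_iSup_of_directed _ hd).1 h
    exact P.1.single y b hP
  open' y p h := by
    haveI := hne.to_subtype
    have hd : Directed (· ≤ ·) fun P : c => P.1.G y := fun P Q => by
      rcases hc.total P.2 Q.2 with h | h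
      · exact ⟨Q, h y, le_rfl⟩
      · exact ⟨P, le_rfl, h y⟩
    obtain ⟨P, hP⟩ := (Submodule.mem_iSup_of_directed _ hd).1 h
    obtain ⟨U, hy, s, t, hs, ht, hst⟩ := P.1.open' y p hP
    exact ⟨U, hy, s, t, hs, ht, fun z hz => Submodule.mem_iSup_of_mem P (hst z hz)⟩

/-- The partial homomorphism on functions given by multiples of a section. -/
def pullSec (P : PHom M F) {V : X.Opens} (s : Γ(M, V)) : PHom (Coh.structureModule X) F where
  G y :=
    { carrier := {p | p = 0 ∨ ∃ (hy : y ∈ V) (r : X.presheaf.stalk y),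
        p.1 = r • oneAt y ∧ (r • gm M hy s, p.2) ∈ P.G y}
      zero_mem' := Or.inl rfl
      add_mem' := by
        rintro p q (rfl | ⟨hy, r, hr, hp⟩) hq
        · rwa [zero_add]
        rcases hq with rfl | ⟨_, r', hr', hq⟩
        · rw [add_zero]; exact Or.inr ⟨hy, r, hr, hp⟩
        refine Or.inr ⟨hy, r + r', ?_, ?_⟩
        · rw [Prod.fst_add, hr, hr', add_smul]
        · rw [add_smul]
          exact add_mem hp hq
      smul_mem' := by
        rintro c p (rfl | ⟨hy, r, hr, hp⟩)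
        · exact Or.inl (smul_zero c)
        refine Or.inr ⟨hy, c * r, ?_, ?_⟩
        · rw [Prod.smul_fst, hr, mul_smul]
        · rw [mul_smul]
          exact Submodule.smul_mem _ c hp }
  single y b h := by
    rcases h with h | ⟨hy, r, hr, hp⟩
    · exact congrArg Prod.snd h
    · obtain rfl : r = 0 := smul_oneAt_injective (hr.symm.trans (zero_smul _ _).symm)
      exact P.single y b (by rwa [zero_smul] at hp)
  open' y p hp := by
    rcases hp with rfl | ⟨hy, r, hr, hp⟩
    · exact ⟨⊤, trivial, 0, 0, gm_zero _, gm_zero _, fun z hz => Or.inl (Prod.ext (gm_zero _) (gm_zero _))⟩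
    obtain ⟨U₁, h₁, r₁, rfl⟩ := exists_gr r
    obtain ⟨U₂, h₂, t, ht⟩ := exists_gm F p.2
    let W₀ := U₁ ⊓ U₂ ⊓ V
    have e1 : gm M (⟨⟨h₁, h₂⟩, hy⟩ : y ∈ W₀)
        (resR (inf_le_left.trans inf_le_left : W₀ ≤ U₁) r₁ • res M (inf_le_right : W₀ ≤ V) s) =
        gr h₁ r₁ • gm M hy s := by
      erw [gm_smul, gm_res, gr_res]
    rw [← e1, ← ht] at hp
    obtain ⟨W, hW₀, hW₂, hyW, hW⟩ := P.exists_nhd _ h₂ hp
    refine ⟨W, hyW, (resR (hW₀.trans (inf_le_left.trans inf_le_left) : W ≤ U₁) r₁ : Γ(X, W)),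
      res F hW₂ t, ?_, by rw [gm_res, ht], fun z hz => ?_⟩
    · rw [gm_fun, gr_res, hr]
    · refine Or.inr ⟨(hW₀ hz).2, gr (hW₀ hz).1.1 r₁, ?_, ?_⟩
      · show gm (Coh.structureModule X) hz _ = _
        rw [gm_fun, gr_res]
      · show (_, gm F hz (res F hW₂ t)) ∈ P.G z
        rw [gm_res]
        have := hW z hz
        erw [gm_smul, gm_res, gr_res] at this
        exact this

lemma mem_pullSec (P : PHom M F) {V : X.Opens} (s : Γ(M, V)) {y : X} (hy : y ∈ V)
    (r : X.presheaf.stalk y) (b : F.presheaf.stalk y) (h : (r • gm M hy s, b) ∈ P.G y) :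
    (r • oneAt y, b) ∈ (P.pullSec s).G y :=
  Or.inr ⟨hy, r, rfl, h⟩

/-- Enlarge by a compatible pair of sections. -/
def adjoin (P : PHom M F) {V : X.Opens} (s : Γ(M, V)) (t : Γ(F, V))
    (h : ∀ y (hy : y ∈ V) (r : X.presheaf.stalk y) b,
      (r • gm M hy s, b) ∈ P.G y → b = r • gm F hy t) : PHom M F where
  G y := P.G y ⊔ Submodule.span _ {p | ∃ hy : y ∈ V, (gm M hy s, gm F hy t) = p}
  single y b hb := by
    obtain ⟨p, hp, q, hq, he⟩ := Submodule.mem_sup.1 hb
    by_cases hy : y ∈ V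
    · rw [show {p | ∃ hy : y ∈ V, (gm M hy s, gm F hy t) = p} = {(gm M hy s, gm F hy t)} from
        Set.ext fun p => ⟨fun ⟨_, h⟩ => h.symm, fun h => ⟨hy, h.symm⟩⟩] at hq
      obtain ⟨r, rfl⟩ := Submodule.mem_span_singleton.1 hq
      obtain ⟨a, c⟩ := p
      have ha : a + r • gm M hy s = 0 := congrArg Prod.fst he
      have hc : c + r • gm F hy t = b := congrArg Prod.snd he
      have h2 := h y hy r (-c) (by
        have h3 := neg_mem hp
        rwa [show -(a, c) = (r • gm M hy s, -c) from Prod.ext (neg_eq_of_add_eq_zero_right ha) rfl] at h3)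
      rw [← hc, ← h2, add_neg_cancel]
    · rw [show {p | ∃ hy : y ∈ V, (gm M hy s, gm F hy t) = p} = ∅ from
        Set.ext fun p => ⟨fun ⟨h, _⟩ => absurd h hy, fun h => h.elim⟩, Submodule.span_empty,
        Submodule.mem_bot] at hq
      subst hq
      rw [add_zero] at he
      exact P.single y b (he ▸ hp)
  open' y p hp := by
    obtain ⟨p₁, hp₁, q, hq, rfl⟩ := Submodule.mem_sup.1 hp
    obtain ⟨U₁, h₁, s₁, t₁, hs₁, ht₁, hst₁⟩ := P.open' y p₁ hp₁
    have hq' : ∃ (U₂ : X.Opens) (s₂ : Γ(M, U₂)) (t₂ : Γ(F, U₂)) (h₂ : y ∈ U₂),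
        gm M h₂ s₂ = q.1 ∧ gm F h₂ t₂ = q.2 ∧ ∀ z (hz : z ∈ U₂), (gm M hz s₂, gm F hz t₂) ∈
          Submodule.span (X.presheaf.stalk z) {p | ∃ hz : z ∈ V, (gm M hz s, gm F hz t) = p} := by
      by_cases hy : y ∈ V
      · rw [show {p | ∃ hy : y ∈ V, (gm M hy s, gm F hy t) = p} = {(gm M hy s, gm F hy t)} from
          Set.ext fun p => ⟨fun ⟨_, h⟩ => h.symm, fun h => ⟨hy, h.symm⟩⟩] at hq
        obtain ⟨r, rfl⟩ := Submodule.mem_span_singleton.1 hq
        obtain ⟨U₂, h₂, r₂, rfl⟩ := exists_gr r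
        refine ⟨U₂ ⊓ V, resR (inf_le_left : U₂ ⊓ V ≤ U₂) r₂ • res M (inf_le_right : U₂ ⊓ V ≤ V) s,
          resR (inf_le_left : U₂ ⊓ V ≤ U₂) r₂ • res F (inf_le_right : U₂ ⊓ V ≤ V) t, (⟨h₂, hy⟩ : y ∈ U₂ ⊓ V),
          ?_, ?_, fun z hz => ?_⟩
        · erw [gm_smul, gm_res, gr_res]; rfl
        · erw [gm_smul, gm_res, gr_res]; rfl
        · erw [gm_smul, gm_res, gr_res, gm_smul, gm_res, gr_res]
          exact Submodule.smul_mem _ (gr hz.1 r₂) (Submodule.subset_span
            (show (gm M hz.2 s, gm F hz.2 t) ∈ {p | ∃ hw : z ∈ V, (gm M hw s, gm F hw t) = p} from ⟨hz.2, rfl⟩))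
      · rw [show {p | ∃ hy : y ∈ V, (gm M hy s, gm F hy t) = p} = ∅ from
          Set.ext fun p => ⟨fun ⟨h, _⟩ => absurd h hy, fun h => h.elim⟩, Submodule.span_empty,
          Submodule.mem_bot] at hq
        subst hq
        exact ⟨⊤, 0, 0, trivial, gm_zero _, gm_zero _, fun z hz => by
          rw [gm_zero, gm_zero]; exact zero_mem _⟩
    obtain ⟨U₂, s₂, t₂, h₂, hs₂, ht₂, hst₂⟩ := hq'
    refine ⟨U₁ ⊓ U₂, ⟨h₁, h₂⟩, res M inf_le_left s₁ + res M inf_le_right s₂,
      res F inf_le_left t₁ + res F inf_le_right t₂, ?_, ?_, fun z hz => ?_⟩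
    · erw [gm_add, gm_res, gm_res, hs₁, hs₂]; rfl
    · erw [gm_add, gm_res, gm_res, ht₁, ht₂]; rfl
    · erw [gm_add, gm_res, gm_res, gm_add, gm_res, gm_res]
      exact Submodule.mem_sup.2 ⟨_, hst₁ z hz.1, _, hst₂ z hz.2, rfl⟩

/-- A partial homomorphism on functions to an injective module is given by a section. -/
theorem exists_section [Injective F] (P : PHom (Coh.structureModule X) F) (V : X.Opens) :
    ∃ t : Γ(F, V), ∀ y (hy : y ∈ V) (r : X.presheaf.stalk y) b,
      (r • oneAt y, b) ∈ P.G y → b = r • gm F hy t := by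
  obtain ⟨h, hh⟩ := P.exists_extend
  refine ⟨h.app V (1 : Γ(X, V)), fun y hy r b hb => ?_⟩
  rw [← hh y _ b hb, map_smul, ← gm_one hy]
  exact congrArg (r • ·) (stalkMapₗ_gm h hy _)

end PHom

/-- Baer's criterion. -/
theorem injective_of_extend
    (h : ∀ (P : PHom (Coh.structureModule X) F) (x : X), ∃ (V : X.Opens) (_ : x ∈ V) (t : Γ(F, V)),
      ∀ y (hy : y ∈ V) (r : X.presheaf.stalk y) b, (r • oneAt y, b) ∈ P.G y → b = r • gm F hy t) :
    Injective F where
  factors {K M} φ ι _ := by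
    obtain ⟨P, hP₀, hP⟩ := zorn_le_nonempty₀ {P : PHom M F | PHom.ofMono ι φ ≤ P}
      (fun c hc hch P hPc => ⟨PHom.chainSup c hch ⟨P, hPc⟩,
        fun y => le_trans (hc hPc y) (le_iSup (fun Q : c => Q.1.G y) ⟨P, hPc⟩),
        fun Q hQ y => le_iSup (fun Q : c => Q.1.G y) ⟨Q, hQ⟩⟩)
      (PHom.ofMono ι φ) (show PHom.ofMono ι φ ≤ PHom.ofMono ι φ from le_rfl)
    have htot : ∀ y, P.dom y = ⊤ := fun x => eq_top_iff.2 fun a _ => by
      obtain ⟨U, hx, s, rfl⟩ := exists_gm M a
      obtain ⟨V, hxV, t, ht⟩ := h (P.pullSec s) x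
      let s' := res M (inf_le_left : U ⊓ V ≤ U) s
      let t' := res F (inf_le_right : U ⊓ V ≤ V) t
      let P' := P.adjoin s' t' fun y hy r b hb => by
        rw [gm_res] at hb ⊢
        exact ht y hy.2 r b (P.mem_pullSec s hy.1 r b hb)
      have hle : P ≤ P' := fun y => le_sup_left
      have hge : P' ≤ P := hP.2 (hP₀.trans hle) hle
      refine P.mem_dom.2 ⟨gm F hxV t, hge x ?_⟩
      exact Submodule.mem_sup_right (Submodule.subset_span
        ⟨⟨hx, hxV⟩, Prod.ext (gm_res _ _ _) (gm_res _ _ _)⟩)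
    refine ⟨P.toHom htot, hom_ext_stalkMapₗ fun y => LinearMap.ext fun k => ?_⟩
    rw [stalkMapₗ_comp, LinearMap.comp_apply]
    exact P.toHom_eq htot (hP₀ y ⟨k, rfl⟩)

/-- Injectivity is local. -/
theorem injective_of_locally
    (h : ∀ x : X, ∃ U : X.Opens, x ∈ U ∧ Injective ((Scheme.Modules.restrictFunctor U.ι).obj F)) :
    Injective F := by
  refine injective_of_extend fun P x => ?_
  obtain ⟨U, hxU, hU⟩ := h x
  haveI : Injective ((Scheme.Modules.pushforward U.ι).obj ((Scheme.Modules.restrictFunctor U.ι).obj F)) := by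
    haveI := Groth.Agent.Lib.Modules.Local.restrictFunctor_preservesFiniteLimits U.ι
    exact Injective.injective_of_adjoint (Scheme.Modules.restrictAdjunction U.ι) _
  let η : F ⟶ (Scheme.Modules.pushforward U.ι).obj ((Scheme.Modules.restrictFunctor U.ι).obj F) :=
    (Scheme.Modules.restrictAdjunction U.ι).unit.app F
  obtain ⟨t, ht⟩ := @PHom.exists_section X _ this (P.comp η) U
  -- the unit is bijective on sections below `U`
  have hη : Function.Bijective (η.app U) := by
    show Function.Bijective (F.presheaf.map (homOfLE (U.ι.image_preimage_le U)).op)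
    have hle : U ≤ U.ι ''ᵁ (U.ι ⁻¹ᵁ U) := fun z hz => ⟨⟨z, hz⟩, hz, rfl⟩
    refine Function.bijective_iff_has_inverse.2 ⟨F.presheaf.map (homOfLE hle).op, fun s => ?_, fun s => ?_⟩
    · exact (res_res (U.ι.image_preimage_le U) hle s).trans (res_self _ s)
    · exact (res_res hle (U.ι.image_preimage_le U) s).trans (res_self _ s)
  obtain ⟨t₀, rfl⟩ := hη.2 t
  have hinj : ∀ y, y ∈ U → Function.Injective (stalkMapₗ η y) := fun y hy => by
    rw [injective_iff_map_eq_zero]
    intro b hb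
    obtain ⟨W₀, hW₀, s₀, rfl⟩ := exists_gm F b
    let W := W₀ ⊓ U
    let s := res F (inf_le_left : W ≤ W₀) s₀
    have hs : gm F (⟨hW₀, hy⟩ : y ∈ W) s = gm F hW₀ s₀ := gm_res _ _ _
    rw [← hs] at hb ⊢
    have hb' : gm _ (⟨hW₀, hy⟩ : y ∈ W) (η.app W s) = 0 := (stalkMapₗ_gm η _ s).symm.trans hb
    obtain ⟨W', hW', hW'top, hyW', he⟩ := exists_gm_eq (V := W) (hV := (⟨hW₀, hy⟩ : y ∈ W)) (t := 0)
      (hb'.trans (gm_zero _).symm)
    have e : res _ hW' (η.app W s) = 0 := section_eq_of_gm _ _ fun z hz => by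
      rw [gm_res, he z hz, gm_zero, gm_zero]
    have e' : (η.app W') (res F hW' s) = 0 := (res_app η hW' s).symm.trans e
    have hle : W' ≤ U.ι ''ᵁ (U.ι ⁻¹ᵁ W') := fun z hz => ⟨⟨z, (hW' hz).2⟩, hz, rfl⟩
    have e'' : res F hW' s = 0 := by
      have := congrArg (F.presheaf.map (homOfLE hle).op) e'
      refine Eq.trans ?_ (this.trans (map_zero _))
      refine Eq.symm ((res_res (U.ι.image_preimage_le W') hle _).trans (res_self _ _))
    rw [← gm_res hW' hyW' s, e'', gm_zero]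
  refine ⟨U, hxU, t₀, fun y hy r b hb => hinj y hy ?_⟩
  refine (ht y hy r _ (P.mem_comp η hb)).trans ?_
  rw [map_smul]
  exact congrArg (r • ·) (stalkMapₗ_gm η hy t₀).symm

end

end Groth.Agent.Lib.InjMod
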