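import Groth.Agent.Lib.InjMod.Hull
import Groth.Agent.Lib.InjMod.Coprod
import Groth.Agent.Lib.Modules.Stalk
import Mathlib.CategoryTheory.Preadditive.Biproducts

/-!
# Decomposition of injective modules on locally Noetherian schemes into indecomposables
-/

set_option autoImplicit false
set_option linter.style.haveILetI false
universe u

open CategoryTheory Limits AlgebraicGeometry Opposite TopologicalSpace

namespace Groth.Agent.Lib.InjMod.Decomp

open Groth.Agent.Lib Groth.Agent.Lib.Modules StalkModule Groth.Agent.Lib.QCoh.Localizing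

noncomputable section

variable {X : Scheme.{u}} {I : X.Modules}

/-- A family with a nonzero element of a stalk, with prime annihilator, met by all nonzero subfamilies. -/
def Core (T : SubFam I) (x : X) (a : I.presheaf.stalk x) : Prop :=
  a ∈ T.S x ∧ a ≠ 0 ∧ (∀ r r' : X.presheaf.stalk x, r • a ≠ 0 → r' • a ≠ 0 → (r * r') • a ≠ 0) ∧
    ∀ A : SubFam I, A ≤ T → (∃ y, ∃ v ∈ A.S y, v ≠ 0) → ∃ r : X.presheaf.stalk x, r • a ∈ A.S x ∧ r • a ≠ 0

theorem Core.not_isZero {T : SubFam I} {x : X} {a : I.presheaf.stalk x} (h : Core T x a) : ¬ IsZero T.obj := by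
  intro hz
  haveI := Stalk.isZero_iff_stalk_subsingleton.1 hz x
  obtain ⟨b, hb⟩ := (show T ≤ SubFam.range T.ι from T.range_ι.ge) x h.1
  exact h.2.1 (by rw [← hb, Subsingleton.elim b 0, map_zero])

theorem Core.indecomposable {T : SubFam I} {x : X} {a : I.presheaf.stalk x} (h : Core T x a) (A B : X.Modules)
    (φ : T.obj ≅ A ⊞ B) : IsZero A ∨ IsZero B := by
  by_contra hn
  rw [not_or] at hn
  have meet : ∀ (A' : X.Modules) (g : A' ⟶ T.obj) [Mono g], ¬ IsZero A' →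
      ∃ r : X.presheaf.stalk x, r • a ≠ 0 ∧ ∃ w, stalkMapₗ (g ≫ T.ι) x w = r • a := by
    intro A' g _ hA
    rw [Stalk.isZero_iff_stalk_subsingleton, not_forall] at hA
    obtain ⟨y, hy⟩ := hA
    rw [not_subsingleton_iff_nontrivial] at hy
    obtain ⟨w, hw⟩ := exists_ne (0 : A'.presheaf.stalk y)
    obtain ⟨r, ⟨w', hw'⟩, hr⟩ := h.2.2.2 (SubFam.range (g ≫ T.ι)) (fun z v ⟨u, hu⟩ => by
      rw [← hu, stalkMapₗ_comp]
      exact (show SubFam.range T.ι ≤ T from T.range_ι.le) z ⟨_, rfl⟩)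
      ⟨y, _, ⟨w, rfl⟩, fun e => hw ((mono_iff_stalkMapₗ_injective (g ≫ T.ι)).1 inferInstance y
        (e.trans (map_zero _).symm))⟩
    exact ⟨r, hr, w', hw'⟩
  obtain ⟨r, hr, w, hw⟩ := meet A (biprod.inl ≫ φ.inv) hn.1
  obtain ⟨r', hr', w', hw'⟩ := meet B (biprod.inr ≫ φ.inv) hn.2
  refine h.2.2.1 r r' hr hr' ?_
  have e : stalkMapₗ ((biprod.inl ≫ φ.inv) ≫ T.ι) x (r' • w) = stalkMapₗ ((biprod.inr ≫ φ.inv) ≫ T.ι) x (r • w') := by
    rw [map_smul, map_smul, hw, hw', ← mul_smul, ← mul_smul, mul_comm]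
  simp only [stalkMapₗ_comp, LinearMap.comp_apply] at e
  have e' := congrArg (stalkMapₗ (biprod.fst : A ⊞ B ⟶ A) x)
    ((mono_iff_stalkMapₗ_injective φ.inv).1 inferInstance x (T.stalkMap_ι_injective x e))
  rw [← LinearMap.comp_apply, ← stalkMapₗ_comp, biprod.inl_fst, stalkMapₗ_id, LinearMap.id_apply,
    ← LinearMap.comp_apply, ← stalkMapₗ_comp, biprod.inr_fst, stalkMapₗ_zero, LinearMap.zero_apply] at e'
  rw [mul_comm, mul_smul, ← hw, ← map_smul, e', map_zero]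

/-- An element with prime annihilator among the multiples of a nonzero element. -/
theorem exists_prime_ann {R M : Type u} [CommRing R] [IsNoetherianRing R] [AddCommGroup M] [Module R M] {b : M}
    (hb : b ≠ 0) : ∃ r₀ : R, r₀ • b ≠ 0 ∧
      ∀ r r' : R, r • r₀ • b ≠ 0 → r' • r₀ • b ≠ 0 → (r * r') • r₀ • b ≠ 0 := by
  let ann : R → Ideal R := fun r₀ => LinearMap.ker (LinearMap.toSpanSingleton R M (r₀ • b))
  obtain ⟨J, ⟨r₀, hr₀, rfl⟩, hmax⟩ := set_has_maximal_iff_noetherian.2 (inferInstance : IsNoetherian R R)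
    {J | ∃ r₀ : R, r₀ • b ≠ 0 ∧ ann r₀ = J} ⟨ann 1, 1, by rwa [one_smul], rfl⟩
  refine ⟨r₀, hr₀, fun r r' hr hr' e => hmax (ann (r' * r₀)) ⟨_, by rwa [mul_smul], rfl⟩ ?_⟩
  refine lt_of_le_of_ne (fun t ht => ?_) fun he => hr ?_
  · show t • (r' * r₀) • b = 0
    rw [mul_smul, smul_comm, show t • r₀ • b = 0 from ht, smul_zero]
  · have : r ∈ ann (r' * r₀) := show r • (r' * r₀) • b = 0 by rw [mul_smul, ← mul_smul]; exact e
    rw [← he] at this
    exact this

variable [IsLocallyNoetherian X]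

/-- A nonzero germ gives a multiple whose generic behaviour near a point is that of a prime. -/
theorem exists_seed {U : X.Opens} (s : Γ(I, U)) {y₀ : X} (hy₀ : y₀ ∈ U) (h₀ : gm I hy₀ s ≠ 0) :
    ∃ (V : X.Opens) (hV : IsAffineOpen V) (hVU : V ≤ U) (c₀ : Γ(X, V)) (W : X.Opens) (hWV : W ≤ V) (x : X) (hx : x ∈ W),
      gm I (hWV hx) (c₀ • res I hVU s) ≠ 0 ∧
      (∀ r r' : X.presheaf.stalk x, r • gm I (hWV hx) (c₀ • res I hVU s) ≠ 0 →
        r' • gm I (hWV hx) (c₀ • res I hVU s) ≠ 0 → (r * r') • gm I (hWV hx) (c₀ • res I hVU s) ≠ 0) ∧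
      ∀ z (hz : z ∈ W) (c : Γ(X, V)), gr (hWV hz) c • gm I (hWV hz) (c₀ • res I hVU s) ≠ 0 →
        x ⤳ z ∧ gr (hWV hx) c • gm I (hWV hx) (c₀ • res I hVU s) ≠ 0 := by
  classical
  obtain ⟨V, hV, hy, hVU⟩ := exists_isAffineOpen_mem_and_subset (U := U) (x := y₀) hy₀
  haveI := isNoetherianRing_sections hV
  let σ : Γ(I, V) := res I hVU s
  have hσ : gm I hy σ ≠ 0 := by rw [gm_res]; exact h₀
  -- the functions vanishing on the support
  let c : Ideal Γ(X, V) :=
    ⨅ y : {y : V // gm I y.2 σ ≠ 0}, pr hV y.1.2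
  have hc : c ≠ ⊤ := fun e => (hV.primeIdealOf ⟨y₀, hy⟩).isPrime.ne_top
    (top_le_iff.1 (e.ge.trans (iInf_le _ (⟨⟨y₀, hy⟩, hσ⟩ : {y : V // gm I y.2 σ ≠ 0}))))
  obtain ⟨x, hx, g, hcx, hgx, hspec⟩ := exists_generic hV hc
  have hxne : gm I hx σ ≠ 0 := by
    intro e
    obtain ⟨O, hOV, _hOV, hxO, hO⟩ := exists_gm_eq (e.trans (gm_zero (M := I) (U := V) hx).symm)
    obtain ⟨f, hf, hxf⟩ := hV.exists_basicOpen_le (V := O) ⟨x, hxO⟩ hx
    refine (mem_basicOpen_iff hV hx f).1 hxf (hcx ?_)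
    refine (Ideal.mem_iInf).2 fun ⟨⟨y, hyV⟩, hy'⟩ => by_contra fun hn => hy' ?_
    rw [hO y (hf ((mem_basicOpen_iff hV hyV f).2 hn)), gm_zero]
  obtain ⟨r₀, hr₀, hprime⟩ := exists_prime_ann (R := X.presheaf.stalk x) hxne
  obtain ⟨c₀, u, hu, e₀⟩ := exists_fraction hV hx r₀
  have ha : gm I hx (c₀ • σ) = gr hx u • r₀ • gm I hx σ := by
    rw [gm_smul, ← e₀, mul_comm, mul_smul]
  have hu' : ∀ {m : I.presheaf.stalk x}, gr hx u • m = 0 ↔ m = 0 := hu.smul_eq_zero
  let P : Ideal Γ(X, V) :=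
    { carrier := {f | gr hx f • gm I hx (c₀ • σ) = 0}
      add_mem' := fun {f f'} h h' => by
        show gr hx (f + f') • _ = 0
        rw [gr, map_add, add_smul]
        exact (congrArg₂ (· + ·) h h').trans (add_zero 0)
      zero_mem' := by
        show gr hx 0 • _ = 0
        rw [gr, map_zero, zero_smul]
      smul_mem' := fun t f h => by
        show gr hx (t * f) • _ = 0
        rw [gr, map_mul, mul_smul]
        exact (congrArg _ h).trans (smul_zero _) }
  obtain ⟨L, hL⟩ := (IsNoetherian.noetherian P)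
  have hkill : ∀ f ∈ L, ∃ O : X.Opens, x ∈ O ∧ ∀ z (hz : z ∈ V), z ∈ O → gr hz f • gm I hz (c₀ • σ) = 0 := by
    intro f hf
    have h1 : gm I hx (f • c₀ • σ) = gm I hx (0 : Γ(I, V)) := by
      rw [gm_zero, gm_smul]
      exact show f ∈ P from hL ▸ Submodule.subset_span hf
    obtain ⟨O, _h1, _h2, hxO, hO⟩ := exists_gm_eq h1
    refine ⟨O, hxO, fun z hz hzO => ?_⟩
    rw [← gm_smul, ← gm_zero (M := I) (U := V) hz]
    exact hO z hzO
  choose! O hxO hO using hkill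
  obtain ⟨h, hxh, hh⟩ := exists_basicOpen_le_inter hV hx L O hxO
  refine ⟨V, hV, hVU, c₀, X.basicOpen g ⊓ X.basicOpen h, inf_le_left.trans (X.basicOpen_le g), x,
    ⟨(mem_basicOpen_iff hV hx g).2 hgx, hxh⟩, ?_, ?_, ?_⟩
  · rw [ha]; exact fun e => hr₀ (hu'.1 e)
  · intro r r' hr hr'
    rw [ha, smul_comm] at hr hr' ⊢
    exact fun e => hprime r r' (fun e1 => hr (by rw [e1, smul_zero])) (fun e1 => hr' (by rw [e1, smul_zero]))
      (hu'.1 e)
  · intro z hz f hf
    have hzV : z ∈ V := X.basicOpen_le g hz.1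
    refine ⟨hspec z hzV ?_ ((mem_basicOpen_iff hV hzV g).1 hz.1), fun e => hf ?_⟩
    · exact iInf_le_of_le ⟨⟨z, hzV⟩, fun e => hf (by rw [gm_smul, e, smul_zero, smul_zero])⟩ le_rfl
    · have hfP : f ∈ Submodule.span Γ(X, V) (L : Set Γ(X, V)) := hL.symm ▸ (show f ∈ P from e)
      clear hf e
      induction hfP using Submodule.span_induction with
      | mem f hf' => exact hO f hf' z hzV (hh f hf' hz.2)
      | zero => rw [gr, map_zero, zero_smul]
      | add f f' _ _ i i' =>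
        rw [gr, map_add, add_smul]
        exact (congrArg₂ (· + ·) i i').trans (add_zero 0)
      | smul t f _ i =>
        rw [gr, smul_eq_mul, map_mul, mul_smul]
        exact (congrArg _ i).trans (smul_zero _)

/-- A nonzero section yields an indecomposable injective summand, controlled by a multiple of the section. -/
theorem exists_core [Injective I] {U : X.Opens} (s : Γ(I, U)) {y₀ : X} (hy₀ : y₀ ∈ U) (h₀ : gm I hy₀ s ≠ 0) :
    ∃ (T : SubFam I) (x : X) (hx : x ∈ U) (r : X.presheaf.stalk x),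
      Injective T.obj ∧ Core T x (r • gm I hx s) := by
  classical
  obtain ⟨V, hV, hVU, c₀, W, hWV, x, hx, hne, hprime, hkey⟩ := exists_seed s hy₀ h₀
  let σ : Γ(I, W) := res I hWV (c₀ • res I hVU s)
  let a := gm I (hWV hx) (c₀ • res I hVU s)
  let T₀ : SubFam I := SubFam.spanSec σ
  obtain ⟨T, -, hT⟩ := SubFam.exists_maximal (Ess T₀) T₀
    ⟨le_rfl, fun U' y hy t ht ht0 => ⟨y, hy, 1, by rw [one_smul]; exact ht, by rw [one_smul]; exact ht0⟩⟩
    (fun c hc hne' hP => by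
      obtain ⟨T', hT'⟩ := hne'
      refine ⟨(hP T' hT').1.trans (SubFam.le_sSup' hT'), fun U' y hy t ht ht0 => ?_⟩
      obtain ⟨T'', hT'', ht'⟩ := SubFam.mem_sSup'_chain hc ⟨T', hT'⟩ ht
      exact (hP T'' hT'').2 U' y hy t ht' ht0)
  obtain ⟨e, heT, hfix⟩ := exists_retraction T₀ T hT
  have hι : T.ι ≫ T.lift e heT = 𝟙 T.obj := by
    rw [← cancel_mono T.ι, Category.assoc, T.lift_ι, Category.id_comp]
    refine Stalk.hom_ext_stalk fun z => ConcreteCategory.hom_ext _ _ fun w => ?_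
    show stalkMapₗ (T.ι ≫ e) z w = stalkMapₗ T.ι z w
    rw [stalkMapₗ_comp, LinearMap.comp_apply]
    exact hfix z _ ((show SubFam.range T.ι ≤ T from T.range_ι.le) z ⟨w, rfl⟩)
  have hinj : Injective T.obj := ⟨fun {P Q} g m _ => ⟨Injective.factorThru (g ≫ T.ι) m ≫ T.lift e heT, by
    rw [← Category.assoc, Injective.comp_factorThru, Category.assoc, hι, Category.comp_id]⟩⟩
  have ha : gr (hWV hx) c₀ • gm I (hVU (hWV hx)) s = a := by
    show _ = gm I _ _
    rw [gm_smul, gm_res]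
  refine ⟨T, x, hVU (hWV hx), gr (hWV hx) c₀, hinj, ?_⟩
  rw [ha]
  have hσ : ∀ z (hz : z ∈ W), gm I hz σ = gm I (hWV hz) (c₀ • res I hVU s) := fun z hz => gm_res _ _ _
  refine ⟨hT.1.1 x (by rw [show a = gm I hx σ from (hσ x hx).symm]; exact SubFam.gm_mem_spanSec σ hx), hne, hprime, ?_⟩
  rintro A hA ⟨y, v, hv, hv0⟩
  obtain ⟨U', hy, t, rfl, ht⟩ := A.open' y v hv
  obtain ⟨z, hz, r, hrT, hr0⟩ := hT.1.2 U' y hy t (hA y hv) hv0
  by_cases hzW : z ∈ W
  swap
  · exfalso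
    have h1 : T₀.S z = ⊥ := eq_bot_iff.2 (Submodule.span_le.2 fun w ⟨h, _⟩ => absurd h hzW)
    rw [h1, Submodule.mem_bot] at hrT
    exact hr0 hrT
  have hv' : r • gm I hz t ∈ Submodule.span (X.presheaf.stalk z) {gm I hzW σ} :=
    Submodule.span_mono (show {w | ∃ h : z ∈ W, gm I h σ = w} ⊆ {gm I hzW σ} from fun w ⟨_, hw⟩ => hw.symm) hrT
  obtain ⟨q, hq⟩ := Submodule.mem_span_singleton.1 hv'
  obtain ⟨f, u, hu, efu⟩ := exists_fraction hV (hWV hzW) q
  have hfA : gm I (hWV hzW) (f • c₀ • res I hVU s) ∈ A.S z := by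
    rw [gm_smul, ← efu, mul_comm, mul_smul, ← hσ z hzW, hq]
    exact Submodule.smul_mem _ _ (Submodule.smul_mem _ _ (ht z hz))
  have hf0 : gr (hWV hzW) f • gm I (hWV hzW) (c₀ • res I hVU s) ≠ 0 := by
    rw [← efu, mul_comm, mul_smul, ← hσ z hzW, hq]
    exact fun e => hr0 (hu.smul_eq_zero.1 e)
  obtain ⟨hsp, hx0⟩ := hkey z hzW f hf0
  obtain ⟨W', hW'V, hzW', hW'⟩ := A.exists_nhd (hWV hzW) hfA
  refine ⟨gr (hWV hx) f, ?_, hx0⟩
  have := hW' x (hsp.mem_open W'.2 hzW')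
  rwa [gm_smul] at this

/-- Independent collections of indecomposable injective submodules. -/
def Indep (𝒥 : Set (SubFam I)) : Prop :=
  (∀ T ∈ 𝒥, Injective T.obj ∧ ∃ x a, Core T x a) ∧
    ∀ (F : Finset (SubFam I)), ↑F ⊆ 𝒥 → ∀ (y : X) (v : SubFam I → I.presheaf.stalk y),
      (∀ T ∈ F, v T ∈ T.S y) → ∑ T ∈ F, v T = 0 → ∀ T ∈ F, v T = 0

/-- An injective module is a coproduct of indecomposable injective modules. -/
theorem exists_decomp (hI : Injective I) : ∃ (ι : Type u) (J : ι → X.Modules), (∀ i, Injective (J i)) ∧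
    (∀ i, ¬ IsZero (J i)) ∧ (∀ i (A B : X.Modules), Nonempty (J i ≅ A ⊞ B) → IsZero A ∨ IsZero B) ∧
    Nonempty (I ≅ ∐ J) := by
  classical
  obtain ⟨𝒥, hm⟩ := zorn_subset {𝒥 : Set (SubFam I) | Indep 𝒥} fun c hcS hc => by
    refine ⟨⋃₀ c, ⟨fun T ⟨C, hC, hT⟩ => (hcS hC).1 T hT, fun F hF => ?_⟩, fun _ h => Set.subset_sUnion_of_mem h⟩
    rcases c.eq_empty_or_nonempty with rfl | hne
    · rw [Set.sUnion_empty, Set.subset_empty_iff, Finset.coe_eq_empty] at hF
      subst hF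
      intro y v _ _ T hT
      exact absurd hT (Finset.notMem_empty T)
    · obtain ⟨C, hC, hFC⟩ := hc.directedOn.exists_mem_subset_of_finset_subset_biUnion hne
        (show (F : Set (SubFam I)) ⊆ ⋃ C ∈ c, C by rwa [← Set.sUnion_eq_biUnion])
      exact (hcS hC).2 F hFC
  let J : ↥𝒥 → X.Modules := fun T => T.1.obj
  let h : (∐ J) ⟶ I := Sigma.desc fun T => T.1.ι
  haveI hmono : Mono h := by
    refine (mono_iff_stalkMapₗ_injective h).2 fun y => (injective_iff_map_eq_zero _).2 fun b hb => ?_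
    obtain ⟨F, hF⟩ := exists_finitary J y b
    unfold Finitary at hF
    let w : ↥𝒥 → I.presheaf.stalk y := fun T => stalkMapₗ T.1.ι y (stalkMapₗ (proj J T) y b)
    have hsum : ∑ T ∈ F, w T = 0 := by
      rw [← hb]
      conv_rhs => rw [← hF]
      rw [map_sum]
      refine Finset.sum_congr rfl fun T _ => ?_
      rw [← LinearMap.comp_apply (stalkMapₗ h y), ← stalkMapₗ_comp, Sigma.ι_desc]
    have hv := hm.prop.2 (F.map (Function.Embedding.subtype _))
      (fun T hT => by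
        obtain ⟨T', -, rfl⟩ := Finset.mem_map.1 hT
        exact T'.2)
      y (fun T => if hT : T ∈ 𝒥 then w ⟨T, hT⟩ else 0)
      (fun T hT => by
        obtain ⟨T', -, rfl⟩ := Finset.mem_map.1 hT
        simp only [Function.Embedding.coe_subtype, T'.2, dif_pos]
        exact (show SubFam.range T'.1.ι ≤ T'.1 from T'.1.range_ι.le) y ⟨_, rfl⟩)
      (by
        rw [Finset.sum_map]
        refine Eq.trans (Finset.sum_congr rfl fun T _ => ?_) hsum
        simp only [Function.Embedding.coe_subtype, T.2, dif_pos])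
    rw [← hF]
    refine Finset.sum_eq_zero fun T hT => ?_
    have hw : w T = 0 := by
      have := hv T.1 (Finset.mem_map.2 ⟨T, hT, rfl⟩)
      simpa only [T.2, dif_pos] using this
    rw [T.1.stalkMap_ι_injective y (hw.trans (map_zero _).symm), map_zero]
  haveI : Injective (∐ J) := injective_sigma J fun T => (hm.prop.1 T.1 T.2).1
  let q : I ⟶ ∐ J := Injective.factorThru (𝟙 _) h
  have hq : h ≫ q = 𝟙 _ := Injective.comp_factorThru _ _
  suffices he : q ≫ h = 𝟙 I from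
    ⟨↥𝒥, J, fun T => (hm.prop.1 T.1 T.2).1,
      fun T => let ⟨x, a, ha⟩ := (hm.prop.1 T.1 T.2).2; ha.not_isZero,
      fun T A B ⟨φ⟩ => let ⟨x, a, ha⟩ := (hm.prop.1 T.1 T.2).2; ha.indecomposable A B φ,
      ⟨⟨q, h, he, hq⟩⟩⟩
  by_contra hne
  let e : I ⟶ I := 𝟙 I - q ≫ h
  have heq : e ≫ q = 0 := by simp [e, Preadditive.sub_comp, hq]
  obtain ⟨y₀, w, hw⟩ : ∃ (y : X) (w : I.presheaf.stalk y), stalkMapₗ e y w ≠ 0 := by
    by_contra hall
    push_neg at hall
    refine hne (sub_eq_zero.1 (show e = 0 from Stalk.hom_ext_stalk fun z => ConcreteCategory.hom_ext _ _ fun w => ?_)).symm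
    show stalkMapₗ e z w = stalkMapₗ 0 z w
    rw [hall, stalkMapₗ_zero, LinearMap.zero_apply]
  obtain ⟨U, hy₀, s₀, rfl⟩ := exists_gm I w
  rw [stalkMapₗ_gm] at hw
  obtain ⟨T, x, hx, r, hTinj, hT⟩ := exists_core (e.app U s₀) hy₀ hw
  have hqa : stalkMapₗ q x (r • gm I hx (e.app U s₀)) = 0 := by
    rw [map_smul, ← stalkMapₗ_gm e hx s₀, ← LinearMap.comp_apply, ← stalkMapₗ_comp, heq, stalkMapₗ_zero,
      LinearMap.zero_apply, smul_zero]
  have hdisj : ∀ y, ∀ v ∈ T.S y, v ∈ (SubFam.range h).S y → v = 0 := by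
    intro y v hvT hvR
    by_contra hv0
    obtain ⟨U₁, h₁, t, rfl, htT⟩ := T.open' y v hvT
    obtain ⟨W, hWU, hyW, hW⟩ := (SubFam.range h).exists_nhd h₁ hvR
    let A := SubFam.spanSec (res I hWU t)
    have hAT : A ≤ T := fun z => Submodule.span_le.2 fun a ⟨hz, ha⟩ => by
      rw [← ha, gm_res]; exact htT z (hWU hz)
    have hAR : A ≤ SubFam.range h := fun z => Submodule.span_le.2 fun a ⟨hz, ha⟩ => by
      rw [← ha, gm_res]; exact hW z hz
    obtain ⟨r', hr', hr'0⟩ := hT.2.2.2 A hAT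
      ⟨y, _, SubFam.gm_mem_spanSec _ hyW, by rw [gm_res]; exact hv0⟩
    obtain ⟨b, hb⟩ := hAR x hr'
    have hb0 := congrArg (stalkMapₗ q x) hb
    rw [← LinearMap.comp_apply, ← stalkMapₗ_comp, hq, stalkMapₗ_id, LinearMap.id_apply, map_smul, hqa, smul_zero] at hb0
    exact hr'0 (by rw [← hb, hb0, map_zero])
  have hsub : ∀ T' ∈ 𝒥, T' ≤ SubFam.range h := fun T' hT' y v hv => by
    obtain ⟨b, rfl⟩ := (show T' ≤ SubFam.range T'.ι from T'.range_ι.ge) y hv
    refine ⟨stalkMapₗ (Sigma.ι J ⟨T', hT'⟩) y b, ?_⟩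
    rw [← LinearMap.comp_apply, ← stalkMapₗ_comp, Sigma.ι_desc]
  have hnot : T ∉ 𝒥 := fun h' => hT.2.1 (hdisj x _ hT.1 (hsub T h' x hT.1))
  have hind : Indep (insert T 𝒥) := by
    refine ⟨fun T' hT' => ?_, fun F hF y v hv hsum => ?_⟩
    · rcases hT' with rfl | hT'
      · exact ⟨hTinj, x, _, hT⟩
      · exact hm.prop.1 T' hT'
    · have hF' : ↑(F.erase T) ⊆ 𝒥 := fun T' hT' =>
        (hF (Finset.mem_of_mem_erase hT')).resolve_left (Finset.ne_of_mem_erase hT')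
      by_cases hTF : T ∈ F
      · rw [← Finset.add_sum_erase F v hTF] at hsum
        have hvT : v T = 0 := hdisj y _ (hv T hTF) (by
          rw [eq_neg_of_add_eq_zero_left hsum]
          exact neg_mem (Submodule.sum_mem _ fun T' hT' => hsub T' (hF' hT') y (hv T' (Finset.mem_of_mem_erase hT'))))
        rw [hvT, zero_add] at hsum
        intro T' hT'
        by_cases e' : T' = T
        · rw [e']; exact hvT
        · exact hm.prop.2 _ hF' y v (fun T'' hT'' => hv T'' (Finset.mem_of_mem_erase hT'')) hsum T'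
            (Finset.mem_erase.2 ⟨e', hT'⟩)
      · rw [Finset.erase_eq_of_notMem hTF] at hF'
        exact hm.prop.2 F hF' y v hv hsum
  exact hnot (hm.le_of_ge (show Indep (insert T 𝒥) from hind) (Set.subset_insert T 𝒥) (Set.mem_insert T 𝒥))

end

end Groth.Agent.Lib.InjMod.Decomp
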