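import Groth.Agent.Lib.InjMod.QCohInj
import Groth.Agent.Lib.InjMod.Stalk
import Groth.Agent.Lib.Modules.ExtendFT
import Groth.Agent.Lib.ExtShStalk.Cor
import Groth.Agent.Lib.SpecSeq.Composite
import Groth.Agent.Lib.TensorMod.QCohInv
import Mathlib.Algebra.Homology.DerivedCategory.Ext.ExactSequences

/-!
# Injectivity and Ext sheaves from coherent modules

On a locally Noetherian scheme a quasi-coherent `F` is injective iff `ℰxt¹(G, F) = 0` for all coherent `G`.
-/

set_option autoImplicit false
set_option linter.style.haveILetI false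
universe u

open CategoryTheory CategoryTheory.Limits AlgebraicGeometry Opposite TopologicalSpace

noncomputable section

namespace Groth.Agent.Lib.InjMod.ExtCrit

open Groth.Agent.Lib Groth.Agent.Lib.Modules StalkModule Groth.Agent.Lib.QCoh.Localizing

/-- Injectivity from the vanishing of `Ext¹` out of cyclic modules. -/
theorem injective_of_subsingleton_ext_one {R : Type u} [CommRing R] (M : Type u) [AddCommGroup M] [Module R M]
    (h : ∀ I : Ideal R, Subsingleton (Abelian.Ext.{u} (ModuleCat.of R (R ⧸ I)) (ModuleCat.of R M) 1)) :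
    Module.Injective R M := by
  refine Module.Baer.injective fun I g => ?_
  let S : ShortComplex (ModuleCat.{u} R) :=
    ShortComplex.mk (ModuleCat.ofHom (Submodule.subtype I)) (ModuleCat.ofHom (Submodule.mkQ I))
      (ModuleCat.hom_ext (LinearMap.ext fun a => (Submodule.Quotient.mk_eq_zero I).2 a.2))
  have hS : S.ShortExact :=
    { exact := (ShortComplex.moduleCat_exact_iff _).2 fun a ha =>
        ⟨⟨a, (Submodule.Quotient.mk_eq_zero I).1 ha⟩, rfl⟩
      mono_f := (ModuleCat.mono_iff_injective _).2 Subtype.val_injective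
      epi_g := (ModuleCat.epi_iff_surjective _).2 (Submodule.mkQ_surjective I) }
  haveI : Subsingleton (Abelian.Ext.{u} S.X₃ (ModuleCat.of R M) 1) := h I
  let g' : S.X₁ ⟶ ModuleCat.of R M := ModuleCat.ofHom g
  obtain ⟨x, hx⟩ := Abelian.Ext.contravariant_sequence_exact₁ hS (ModuleCat.of R M) (Abelian.Ext.mk₀ g')
    (rfl : 1 + 0 = 1) (Subsingleton.elim _ _)
  obtain ⟨φ, rfl⟩ := (Abelian.Ext.mk₀_bijective S.X₂ (ModuleCat.of R M)).2 x
  rw [Abelian.Ext.mk₀_comp_mk₀] at hx
  have hφ := (Abelian.Ext.mk₀_bijective _ _).1 hx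
  exact ⟨φ.hom, fun a ha => congrArg (fun t : S.X₁ ⟶ ModuleCat.of R M => t.hom ⟨a, ha⟩) hφ⟩

variable {X : Scheme.{u}} [IsLocallyNoetherian X]

/-- Every cyclic module over a local ring is a stalk of a coherent module. -/
theorem exists_coh_stalk_quotient (x : X) (J : Ideal (X.presheaf.stalk x)) :
    ∃ G : X.Modules, Coh.IsCoh G ∧ Nonempty (G.presheaf.stalk x ≃ₗ[X.presheaf.stalk x] X.presheaf.stalk x ⧸ J) := by
  classical
  haveI hq : (Coh.structureModule X).IsQuasicoherent := TensorMod.QCohInv.isQCoh_structureModule X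
  have hO : Coh.IsCoh (Coh.structureModule X) :=
    CohBasics.Closure.isCoh_of_finite_sections fun U _ => (inferInstance : Module.Finite Γ(X, U) Γ(X, U))
  obtain ⟨n, a, ha⟩ := Submodule.fg_iff_exists_fin_generating_family.1 (IsNoetherian.noetherian J)
  obtain ⟨V, hV, hxV, -⟩ := exists_isAffineOpen_mem_and_subset (U := ⊤) (x := x) trivial
  choose U hxU r hr using fun i => TopCat.Presheaf.exists_germ_eq X.presheaf (a i)
  obtain ⟨f, hxf, hfV⟩ := exists_basicOpen_le_inter hV hxV Finset.univ U fun i _ => hxU i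
  have hW : IsAffineOpen (X.basicOpen f) := hV.basicOpen f
  let W := X.basicOpen f
  let s : Fin n → Γ(Coh.structureModule X, W) := fun i => X.presheaf.map (homOfLE (hfV i (Finset.mem_univ i))).op (r i)
  let S₀ : SubStalk.Family (Coh.structureModule X) := fun y =>
    if hy : y ∈ W then Submodule.span _ (Set.range fun i => gm (Coh.structureModule X) hy (s i)) else ⊥
  letI : LinearOrder (ExtendFT.AffIdx X) := (exists_wellFoundedLT (α := ExtendFT.AffIdx X)).choose
  haveI : WellFoundedLT (ExtendFT.AffIdx X) := (exists_wellFoundedLT (α := ExtendFT.AffIdx X)).choose_spec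
  have hX : ∀ y : X, ∃ U : X.Opens, y ∈ U ∧ NoetherianSpace (U : Set X) := fun y => by
    obtain ⟨U, hU, hy, -⟩ := exists_isAffineOpen_mem_and_subset (U := ⊤) (x := y) trivial
    haveI := isNoetherianRing_sections hU
    exact ⟨U, hy, noetherianSpace_of_isAffineOpen U hU⟩
  have hcov : ⨆ l : ExtendFT.AffIdx X, l.toOpens = ⊤ := eq_top_iff.mpr fun y _ => by
    obtain ⟨U, hU, hy, -⟩ := exists_isAffineOpen_mem_and_subset (U := ⊤) (x := y) trivial
    exact Opens.mem_iSup.mpr ⟨⟨U, hU⟩, hy⟩
  have h := ExtendFT.isLocFG_total (fun l : ExtendFT.AffIdx X => l.toOpens) W S₀ (fun l => l.isAffine)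
    (fun l => ExtendFT.isCompact_of_le_affine hX l.isAffine inf_le_left)
    (SubStalk.IsLocFG.of_affine hW s fun y hy => dif_pos hy) hcov
  let S := ExtendFT.total (fun l : ExtendFT.AffIdx X => l.toOpens) W S₀
  haveI := SubStalk.isQCoh_subMod h
  have hG : Coh.IsCoh (cokernel (SubStalk.ι S)) :=
    CohBasics.Closure.isCoh_cokernel _ inferInstance hO
  refine ⟨cokernel (SubStalk.ι S), hG, ?_⟩
  let π := stalkMapₗ (cokernel.π (SubStalk.ι S)) x
  let ε : X.presheaf.stalk x →ₗ[X.presheaf.stalk x] (Coh.structureModule X).presheaf.stalk x :=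
    LinearMap.toSpanSingleton _ _ (oneAt x)
  have hex : Function.Exact (stalkMapₗ (SubStalk.ι S) x) π :=
    (ShortComplex.ShortExact.moduleCat_exact_iff_function_exact _).1
      ((ShortComplex.exact_cokernel (SubStalk.ι S)).map (stalkModFunctor X x))
  have hπ : Function.Surjective π :=
    (ModuleCat.epi_iff_surjective _).1 ((stalkModFunctor X x).map_epi (cokernel.π (SubStalk.ι S)))
  have hε : Function.Surjective ε := fun b => by
    obtain ⟨t, rfl⟩ := exists_smul_oneAt b
    exact ⟨t, rfl⟩
  have hker : LinearMap.ker (π ∘ₗ ε) = J := by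
    have hJ : Submodule.map ε J = LinearMap.range (stalkMapₗ (SubStalk.ι S) x) := by
      rw [SubStalk.range_stalkMapₗ_ι h (W := ⊤) trivial]
      show _ = ExtendFT.total _ _ _ x
      rw [ExtendFT.total_of_mem _ _ _ hxf]
      refine Eq.trans ?_ (show S₀ x = _ from dif_pos hxf).symm
      rw [← ha, Submodule.map_span, ← Set.range_comp]
      refine congrArg _ (congrArg Set.range (funext fun i => ?_))
      refine Eq.trans ?_ (gm_fun hxf (s i)).symm
      show a i • oneAt x = _
      rw [← hr i]
      exact congrArg (· • oneAt x) (TopCat.Presheaf.germ_res_apply _ _ x hxf _).symm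
    rw [LinearMap.ker_comp, hex.linearMap_ker_eq, ← hJ]
    exact Submodule.comap_map_eq_of_injective (fun _ _ => smul_oneAt_injective) J
  exact ⟨((Submodule.quotEquivOfEq _ _ hker.symm).trans
    ((π ∘ₗ ε).quotKerEquivOfSurjective (hπ.comp hε))).symm⟩

variable [HasInjectiveResolutions X.Modules]

/-- The criterion. -/
theorem injective_iff (F : X.Modules) (hF : Coh.IsQCoh F) :
    Injective F ↔ ∀ (G : X.Modules) [ModSite.HasSheafHom (O := X.sheaf) G] [(ExtShStalk.Hom.R G).Additive],
      Coh.IsCoh G →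
      IsZero (((ExtShStalk.Hom.R G).rightDerived 1).obj F) := by
  haveI : HasInjectiveResolutions (ModSite.Mod X.sheaf) := ‹HasInjectiveResolutions X.Modules›
  constructor
  · intro hI G _ _ _
    exact Functor.isZero_rightDerived_obj_injective_succ _ 0 F
  · intro h
    haveI : F.IsQuasicoherent := hF
    refine injective_of_stalks fun x => injective_of_subsingleton_ext_one _ fun J => ?_
    obtain ⟨G, hG, ⟨e⟩⟩ := exists_coh_stalk_quotient x J
    haveI : ModSite.HasSheafHom (O := X.sheaf) G := ModTensor.ModSite.hasSheafHom (O := X.sheaf) _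
    haveI : (ExtShStalk.Hom.R G).Additive := (ExtShStalk.Hom.adj G).right_adjoint_additive
    obtain ⟨φ⟩ := ExtShStalk.Cor.nonempty_stalk_equiv G hG (fun I hI => injective_stalk hI x) F 1
    haveI : Subsingleton ((ExtShStalk.Cor.ext G F 1).presheaf.stalk x) :=
      Stalk.isZero_iff_stalk_subsingleton.1 (h G hG) x
    exact ((ExtLin.Congr.extCongr (X.presheaf.stalk x) e.toModuleIso.symm
      (Iso.refl (ModuleCat.of _ (F.presheaf.stalk x))) 1).toEquiv.trans φ.toEquiv.symm).subsingleton

end Groth.Agent.Lib.InjMod.ExtCrit
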