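import Groth.Agent.Lib.InjMod.Affine
import Groth.Prelude.Def_CxOX

/-!
# The extension by zero of the structure sheaf of an affine open of a locally Noetherian scheme

It is generated by one section on the open, so its subobjects satisfy the ascending chain condition.
-/

set_option autoImplicit false
universe u

open CategoryTheory Limits AlgebraicGeometry Opposite TopologicalSpace

namespace Groth.Agent.Lib.InjMod

open Groth.Agent.Lib.Modules StalkModule Groth.Agent.Lib.QCoh.Localizing

noncomputable section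

variable {U X : Scheme.{u}} {M : X.Modules}

/-- The morphism of a global section. -/
def homOfTop (N : U.Modules) (m : Γ(N, ⊤)) : Coh.structureModule U ⟶ N :=
  (SheafOfModules.unitHomEquiv N).symm (N.val.sectionsMk
    (fun V => N.presheaf.map (homOfLE (le_top (a := V.unop))).op m)
    (fun V W g => by
      change (N.presheaf.map (homOfLE le_top).op ≫ N.presheaf.map g) m = _
      rw [← Functor.map_comp]
      rfl))

lemma homOfTop_one (N : U.Modules) (m : Γ(N, ⊤)) :
    (homOfTop N m).app ⊤ (1 : Γ(U, ⊤)) = m :=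
  (one_smul Γ(U, ⊤) _).trans (res_self _ m)

lemma hom_ext_one {N : U.Modules} {f g : Coh.structureModule U ⟶ N}
    (h : f.app ⊤ (1 : Γ(U, ⊤)) = g.app ⊤ (1 : Γ(U, ⊤))) : f = g := by
  ext V r
  have key : ∀ φ : Coh.structureModule U ⟶ N, φ.app V r =
      (show Γ(U, V) from r) • res N (le_top : V ≤ ⊤) (φ.app ⊤ (1 : Γ(U, ⊤))) := fun φ => by
    rw [res_app, ← φ.app_smul]
    refine congrArg _ ?_
    show r = (show Γ(U, V) from r) * (U.presheaf.map (homOfLE (le_top : V ≤ ⊤)).op).hom (1 : Γ(U, ⊤))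
    rw [map_one, mul_one]
  rw [key f, key g, h]

variable (j : U ⟶ X) [IsOpenImmersion j]

/-- The section of `j_! O_U` given by one. -/
def genSec : Γ(CxOX.extZeroUnit j, j ''ᵁ ⊤) :=
  ((CxOX.extZeroAdj j).unit.app (Coh.structureModule U)).app ⊤ (1 : Γ(U, ⊤))

/-- The section given by one generates. -/
theorem mem_spanSec_genSec (y : X) (a : (CxOX.extZeroUnit j).presheaf.stalk y) :
    a ∈ (SubFam.spanSec (genSec j)).S y := by
  let T := SubFam.spanSec (genSec j)
  let e' : Γ((Scheme.Modules.restrictFunctor j).obj T.obj, ⊤) :=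
    (⟨genSec j, fun z hz => SubFam.gm_mem_spanSec _ hz⟩ : T.sec (j ''ᵁ ⊤))
  let h : CxOX.extZeroUnit j ⟶ T.obj :=
    ((CxOX.extZeroAdj j).homEquiv _ _).symm (homOfTop _ e')
  have hh : h ≫ T.ι = 𝟙 _ := by
    refine ((CxOX.extZeroAdj j).homEquiv _ _).injective ?_
    rw [Adjunction.homEquiv_naturality_right, Equiv.apply_symm_apply]
    refine hom_ext_one ?_
    show T.ι.app (j ''ᵁ ⊤) ((homOfTop _ e').app ⊤ (1 : Γ(U, ⊤))) = _
    rw [homOfTop_one, Adjunction.homEquiv_unit, CategoryTheory.Functor.map_id]; erw [Category.comp_id]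
    rfl
  have e := congrArg (fun φ => stalkMapₗ φ y a) hh
  simp only [stalkMapₗ_comp, stalkMapₗ_id, LinearMap.comp_apply, LinearMap.id_apply] at e
  rw [← e]
  exact (show SubFam.range T.ι ≤ T from T.range_ι.le) y ⟨_, rfl⟩

/-- The ideals carrying a section into a family. -/
def colon {W : X.Opens} (s : Γ(M, W)) (S : SubFam M) : SubFam (Coh.structureModule X) :=
  SubFam.ofGen (fun y => {a | ∃ (hy : y ∈ W) (r : X.presheaf.stalk y), r • gm M hy s ∈ S.S y ∧ r • oneAt y = a})
    fun y a ha => by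
      obtain ⟨hy, r, hr, rfl⟩ := ha
      obtain ⟨W₁, h₁, r₁, rfl⟩ := exists_gr r
      have e1 : gm M (⟨h₁, hy⟩ : y ∈ W₁ ⊓ W)
          (resR (inf_le_left : W₁ ⊓ W ≤ W₁) r₁ • res M (inf_le_right : W₁ ⊓ W ≤ W) s) ∈ S.S y := by
        erw [gm_smul, gm_res, gr_res]
        exact hr
      obtain ⟨W', hW', hyW, he⟩ := S.exists_nhd _ e1
      refine ⟨W', hyW, resR (hW'.trans inf_le_left) r₁, by rw [gm_fun, gr_res], fun z hz => ?_⟩
      rw [gm_fun, gr_res]
      refine Submodule.subset_span ⟨(hW' hz).2, gr (hW' hz).1 r₁, ?_, rfl⟩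
      have := he z hz
      erw [gm_smul, gm_res, gr_res] at this
      exact this

lemma colon_S {W : X.Opens} (s : Γ(M, W)) (S : SubFam M) {y : X} (hy : y ∈ W) (r : X.presheaf.stalk y) :
    r • oneAt y ∈ (colon s S).S y ↔ r • gm M hy s ∈ S.S y := by
  constructor
  · intro h
    have : (colon s S).S y ≤ ((S.S y).comap (LinearMap.toSpanSingleton (X.presheaf.stalk y) _ (gm M hy s))).map
        (LinearMap.toSpanSingleton (X.presheaf.stalk y) _ (oneAt y)) :=
      Submodule.span_le.2 fun a ⟨_, r', hr', ha⟩ => ⟨r', hr', ha⟩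
    obtain ⟨r', hr', he⟩ := this h
    rw [← smul_oneAt_injective (y := y) he]
    exact hr'
  · intro h
    exact Submodule.subset_span ⟨hy, r, h, rfl⟩

/-- Families of submodules of a module generated by one section on an affine open stabilise. -/
theorem exists_stable [IsLocallyNoetherian X] {W : X.Opens} (hW : IsAffineOpen W) (e : Γ(M, W))
    (hspan : ∀ y (a : M.presheaf.stalk y), a ∈ (SubFam.spanSec e).S y) (S : ℕ → SubFam M)
    (hS : Monotone S) : ∃ N, ∀ n, S n ≤ S N := by
  classical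
  let K : ℕ → SubFam (Coh.structureModule X) := fun n => colon e (S n)
  have hKm : ∀ n k, n ≤ k → ∀ y (hy : y ∈ W) (r : X.presheaf.stalk y),
      r • oneAt y ∈ (K n).S y → r • oneAt y ∈ (K k).S y := by
    intro n k hnk y hy r hr
    rw [colon_S _ _ hy] at hr ⊢
    exact hS hnk y hr
  obtain ⟨L, hL, hgen⟩ := exists_gens hW (SubFam.sSup' (Set.range K))
  have hN : ∀ l ∈ L, ∃ N, ∀ y (hy : y ∈ W), y ∈ X.basicOpen l.1 → gr hy l.2 • oneAt y ∈ (K N).S y := by
    intro l hl
    have hloc : ∀ y : X.basicOpen l.1, ∃ (O : X.Opens) (N : ℕ), y.1 ∈ O ∧ ∀ z (hz : z ∈ W), z ∈ O →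
        gr hz l.2 • oneAt z ∈ (K N).S z := by
      rintro ⟨y, hyl⟩
      have hy : y ∈ W := X.basicOpen_le _ hyl
      obtain ⟨N, hN⟩ : ∃ N, gr hy l.2 • oneAt y ∈ (K N).S y := by
        obtain ⟨_, ⟨N, rfl⟩, hN⟩ := SubFam.mem_sSup'_chain (c := Set.range K) (M := Coh.structureModule X) (by
          rintro _ ⟨n, rfl⟩ _ ⟨k, rfl⟩ -
          rcases le_total n k with h | h
          · refine Or.inl fun z => Submodule.span_le.2 ?_
            rintro a ⟨hz, r, hr, rfl⟩
            exact hKm n k h z hz r (Submodule.subset_span ⟨hz, r, hr, rfl⟩)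
          · refine Or.inr fun z => Submodule.span_le.2 ?_
            rintro a ⟨hz, r, hr, rfl⟩
            exact hKm k n h z hz r (Submodule.subset_span ⟨hz, r, hr, rfl⟩))
          (Set.range_nonempty K) (hL l hl y hy hyl)
        exact ⟨N, hN⟩
      rw [← gm_fun] at hN
      obtain ⟨O, hO, hyO, hOz⟩ := (K N).exists_nhd hy hN
      exact ⟨O, N, hyO, fun z hz hzO => by rw [← gm_fun]; exact hOz z hzO⟩
    choose O N hmem hO using hloc
    obtain ⟨F, hF⟩ := (hW.basicOpen l.1).isCompact.elim_finite_subcover (fun y => (O y : Set X))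
      (fun y => (O y).2) fun y hy => Set.mem_iUnion.2 ⟨⟨y, hy⟩, hmem ⟨y, hy⟩⟩
    refine ⟨F.sup N, fun y hy hyl => ?_⟩
    obtain ⟨i, hiF, hi⟩ := Set.mem_iUnion₂.1 (hF hyl)
    exact hKm _ _ (Finset.le_sup hiF) y hy _ (hO i y hy hi)
  choose N hN using hN
  refine ⟨L.attach.sup fun l => N l.1 l.2, fun n y a ha => ?_⟩
  by_cases hy : y ∈ W
  swap
  · have h0 : a ∈ (⊥ : Submodule (X.presheaf.stalk y) _) :=
      (show (SubFam.spanSec e).S y ≤ ⊥ from Submodule.span_le.2 fun b ⟨h, _⟩ => absurd h hy) (hspan y a)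
    rw [(Submodule.mem_bot _).1 h0]
    exact zero_mem _
  obtain ⟨r, rfl⟩ := Submodule.mem_span_singleton.1
    ((Submodule.span_mono (show {a | ∃ h : y ∈ W, gm M h e = a} ⊆ {gm M hy e} from fun b ⟨_, hb⟩ => hb.symm))
      (hspan y a))
  refine (colon_S e _ hy r).1 ((Submodule.span_le
    (p := ((K (L.attach.sup fun l => N l.1 l.2)).S y).comap (LinearMap.toSpanSingleton _ _ (oneAt y)))).2 ?_
    (hgen y hy r (SubFam.le_sSup' (Set.mem_range_self n) y ((colon_S e _ hy r).2 ha))))
  rintro _ ⟨l, hl, hyl, rfl⟩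
  exact hKm _ _ (Finset.le_sup (f := fun l : {l // l ∈ L} => N l.1 l.2) (Finset.mem_attach L ⟨l, hl⟩)) y hy _
    (hN l hl y hy hyl)

/-- A subobject is determined by its stalks. -/
theorem subobject_le_of_range_le {P Q : Subobject M}
    (h : SubFam.range P.arrow ≤ SubFam.range Q.arrow) : P ≤ Q := by
  let T := SubFam.range Q.arrow
  let q : (Q : X.Modules) ⟶ T.obj :=
    { val := PresheafOfModules.homMk
        { app := fun V => AddCommGrpCat.ofHom
            { toFun := fun (s : Γ((Q : X.Modules), V.unop)) =>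
                (⟨Q.arrow.app V.unop s, fun z hz => ⟨gm _ hz s, stalkMapₗ_gm Q.arrow hz s⟩⟩ : T.sec V.unop)
              map_zero' := Subtype.ext (map_zero (Q.arrow.app V.unop).hom)
              map_add' := fun a b => Subtype.ext (map_add (Q.arrow.app V.unop).hom a b) }
          naturality := fun V W i => by
            ext (s : Γ((Q : X.Modules), V.unop))
            exact Subtype.ext (res_app Q.arrow i.unop.le s).symm }
        fun V r s => Subtype.ext (Q.arrow.app_smul (show Γ(X, V.unop) from r) (show Γ((Q : X.Modules), V.unop) from s)) }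
  have hq : q ≫ T.ι = Q.arrow := by
    ext V s
    rfl
  haveI : IsIso q := (isIso_iff_stalkMapₗ_bijective q).2 fun y => ⟨fun a b hab => by
    refine (mono_iff_stalkMapₗ_injective Q.arrow).1 inferInstance y ?_
    rw [← hq, stalkMapₗ_comp, LinearMap.comp_apply, LinearMap.comp_apply, hab], fun b => by
    obtain ⟨a, ha⟩ := (show SubFam.range T.ι ≤ T from T.range_ι.le) y ⟨b, rfl⟩
    exact ⟨a, T.stalkMap_ι_injective y (by rw [← ha, ← LinearMap.comp_apply, ← stalkMapₗ_comp, hq])⟩⟩
  let p : (P : X.Modules) ⟶ T.obj :=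
    { val := PresheafOfModules.homMk
        { app := fun V => AddCommGrpCat.ofHom
            { toFun := fun (s : Γ((P : X.Modules), V.unop)) =>
                (⟨P.arrow.app V.unop s, fun z hz => h z ⟨gm _ hz s, stalkMapₗ_gm P.arrow hz s⟩⟩ : T.sec V.unop)
              map_zero' := Subtype.ext (map_zero (P.arrow.app V.unop).hom)
              map_add' := fun a b => Subtype.ext (map_add (P.arrow.app V.unop).hom a b) }
          naturality := fun V W i => by
            ext (s : Γ((P : X.Modules), V.unop))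
            exact Subtype.ext (res_app P.arrow i.unop.le s).symm }
        fun V r s => Subtype.ext (P.arrow.app_smul (show Γ(X, V.unop) from r) (show Γ((P : X.Modules), V.unop) from s)) }
  refine Subobject.le_of_comm (p ≫ inv q) ?_
  rw [Category.assoc, (IsIso.inv_comp_eq q).2 hq.symm]
  ext V s
  rfl

/-- The ascending chain condition for subobjects of `j_! O_U`. -/
theorem acc_extZeroUnit [IsLocallyNoetherian X] [IsAffine U]
    (c : ℕ →o Subobject (CxOX.extZeroUnit j)) : ∃ n : ℕ, ∀ m : ℕ, n ≤ m → c n = c m := by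
  obtain ⟨N, hN⟩ := exists_stable (M := CxOX.extZeroUnit j) ((isAffineOpen_top U).image_of_isOpenImmersion j) (genSec j)
    (mem_spanSec_genSec j) (fun n => SubFam.range (c n).arrow) fun n m hnm y a ha => by
      obtain ⟨b, rfl⟩ := ha
      refine ⟨stalkMapₗ (Subobject.ofLE _ _ (c.monotone hnm)) y b, ?_⟩
      rw [← LinearMap.comp_apply, ← stalkMapₗ_comp, Subobject.ofLE_arrow]
  exact ⟨N, fun m hm => le_antisymm (c.monotone hm) (subobject_le_of_range_le (hN m))⟩

end

end Groth.Agent.Lib.InjMod
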