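import Groth.Agent.Lib.InjMod.Criterion
import Groth.Prelude.Def_DCoh2
import Groth.Prelude.Def_CxOX

/-!
# Sections supported outside an open subscheme of an injective module
-/

set_option autoImplicit false
universe u

open CategoryTheory Limits AlgebraicGeometry Opposite TopologicalSpace

namespace Groth.Agent.Lib.InjMod

open Groth.Agent.Lib.Modules StalkModule Groth.Agent.Lib.QCoh.Localizing

noncomputable section

variable {X U : Scheme.{u}} {M F : X.Modules} (j : U ⟶ X) [IsOpenImmersion j]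

/-- The unit of restriction to an open subscheme. -/
def unitR (F : X.Modules) : F ⟶ (Scheme.Modules.pushforward j).obj ((Scheme.Modules.restrictFunctor j).obj F) :=
  (Scheme.Modules.restrictAdjunction j).unit.app F

lemma unitR_app_eq_zero {W : X.Opens} (s : Γ(F, W))
    (h : ∀ z (hz : z ∈ W), z ∈ j.opensRange → gm F hz s = 0) : (unitR j F).app W s = 0 := by
  show res F (j.image_preimage_le W) s = 0
  refine section_eq_of_gm (M := F) _ _ fun z hz => ?_
  obtain ⟨u, hu, rfl⟩ := hz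
  refine (gm_res _ _ _).trans ?_
  exact (h _ _ ⟨u, rfl⟩).trans (gm_zero _).symm

lemma gm_eq_zero_of_unitR {W : X.Opens} (s : Γ(F, W)) (h : (unitR j F).app W s = 0) {z : X} (hz : z ∈ W)
    (hzj : z ∈ j.opensRange) : gm F hz s = 0 := by
  obtain ⟨u, rfl⟩ := hzj
  have hu : j u ∈ j ''ᵁ (j ⁻¹ᵁ W) := ⟨u, hz, rfl⟩
  refine ((gm_res (M := F) (j.image_preimage_le W) hu s).symm.trans ?_)
  rw [show res F (j.image_preimage_le W) s = 0 from h, gm_zero]

namespace PHom

/-- Extend by zero on an open. -/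
def extendZero (P : PHom M F) (O : X.Opens)
    (h : ∀ y ∈ O, ∀ (a : M.presheaf.stalk y) b, (a, b) ∈ P.G y → b = 0) : PHom M F where
  G y :=
    { carrier := {p | (y ∈ O ∧ p.2 = 0) ∨ (y ∉ O ∧ p ∈ P.G y)}
      zero_mem' := by
        by_cases hy : y ∈ O
        · exact Or.inl ⟨hy, rfl⟩
        · exact Or.inr ⟨hy, zero_mem _⟩
      add_mem' := by
        rintro p q (⟨hy, hp⟩ | ⟨hy, hp⟩) (⟨hy', hq⟩ | ⟨hy', hq⟩)
        · exact Or.inl ⟨hy, by rw [Prod.snd_add, hp, hq, add_zero]⟩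
        · exact absurd hy hy'
        · exact absurd hy' hy
        · exact Or.inr ⟨hy, add_mem hp hq⟩
      smul_mem' := by
        rintro c p (⟨hy, hp⟩ | ⟨hy, hp⟩)
        · exact Or.inl ⟨hy, by rw [Prod.smul_snd, hp, smul_zero]⟩
        · exact Or.inr ⟨hy, Submodule.smul_mem _ c hp⟩ }
  single y b hb := by
    rcases hb with ⟨-, hb⟩ | ⟨-, hb⟩
    · exact hb
    · exact P.single y b hb
  open' y p hp := by
    rcases hp with ⟨hy, hp⟩ | ⟨hy, hp⟩
    · obtain ⟨W, hW, s, hs⟩ := exists_gm M p.1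
      refine ⟨W ⊓ O, ⟨hW, hy⟩, res M inf_le_left s, 0, (gm_res _ _ _).trans hs,
        (gm_zero _).trans hp.symm, fun z hz => Or.inl ⟨hz.2, gm_zero _⟩⟩
    · obtain ⟨W, hyW, s, t, hs, ht, hst⟩ := P.open' y p hp
      refine ⟨W, hyW, s, t, hs, ht, fun z hz => ?_⟩
      by_cases hzO : z ∈ O
      · exact Or.inl ⟨hzO, h z hzO _ _ (hst z hz)⟩
      · exact Or.inr ⟨hzO, hst z hz⟩

end PHom

/-- The sections of an injective module supported outside an open subscheme form an injective module. -/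
theorem injective_gammaZ (I : X.Modules) [Injective I] : Injective ((DCoh.gammaZ j).obj I) := by
  refine ⟨fun {K M} φ ι _ => ?_⟩
  let κ : (DCoh.gammaZ j).obj I ⟶ I := kernel.ι (unitR j I)
  have hκ : κ ≫ unitR j I = 0 := kernel.condition _
  let P := PHom.ofMono ι (φ ≫ κ)
  have h0 : ∀ y ∈ j.opensRange, ∀ (a : M.presheaf.stalk y) b, (a, b) ∈ P.G y → b = 0 := by
    intro y hy a b hb
    obtain ⟨k, hk⟩ := hb
    obtain ⟨W, hW, s, rfl⟩ := exists_gm K k
    rw [← show stalkMapₗ (φ ≫ κ) y (gm K hW s) = b from congrArg Prod.snd hk, stalkMapₗ_gm]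
    refine gm_eq_zero_of_unitR j _ ?_ hW hy
    have := congrArg (fun ψ => ψ.app W (φ.app W s)) hκ
    exact this
  let Q := P.extendZero j.opensRange h0
  obtain ⟨h, hh⟩ := Q.exists_extend
  have hh0 : h ≫ unitR j I = 0 := by
    ext W s
    show (unitR j I).app W (h.app W s) = 0
    refine unitR_app_eq_zero j _ fun z hz hzj => ?_
    rw [← stalkMapₗ_gm]
    exact hh z _ 0 (Or.inl ⟨hzj, rfl⟩)
  refine ⟨kernel.lift _ h hh0, ?_⟩
  haveI : Mono κ := inferInstanceAs (Mono (kernel.ι (unitR j I)))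
  refine (cancel_mono κ).1 ((Category.assoc _ _ _).trans ?_)
  refine Eq.trans (congrArg (ι ≫ ·) (kernel.lift_ι _ h hh0)) ?_
  refine hom_ext_stalkMapₗ fun y => LinearMap.ext fun k => ?_
  rw [stalkMapₗ_comp, LinearMap.comp_apply]
  refine hh y _ _ ?_
  by_cases hy : y ∈ j.opensRange
  · exact Or.inl ⟨hy, h0 y hy _ _ ⟨k, rfl⟩⟩
  · exact Or.inr ⟨hy, ⟨k, rfl⟩⟩

end

end Groth.Agent.Lib.InjMod
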